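import Mathlib
import Cfsg.Agent.S0033
import Cfsg.Agent.S0043

/-!
# Prime graph: numerical non-adjacency conditions (helper154)

`NonAdj G p q` : no element of order `p * q`.

* `card_dvd_sub_one` : a `q`-subgroup normalizing a `p`-subgroup `P` has order dividing `|P| - 1`;
* `frattini_dvd` : `N` normal, `p ∣ |N|`: the `q`-part of `|G : N|` divides `|N|_p - 1`;
* `chief_dvd` : `M / N` a chief factor, `p ∣ |N|`, `q ∣ |M : N|`: every prime `r ≠ p` dividing `|M : N|`
  divides `p ^ a - 1` for some `1 ≤ a ≤ v_p |N|`;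
* `solvable_dvd` : the condition for solvable groups;
* `nilpotent_of_isolated` : Thompson.
-/

set_option autoImplicit false

namespace Cfsg.Agent.H154.PG

open Subgroup

/-- no element of order `p * q` -/
def NonAdj (G : Type*) [Group G] (p q : ℕ) : Prop := ¬ ∃ g : G, orderOf g = p * q

theorem NonAdj.symm {G : Type*} [Group G] {p q : ℕ} (h : NonAdj G p q) : NonAdj G q p := by
  rintro ⟨g, hg⟩
  exact h ⟨g, by rw [hg, mul_comm]⟩

theorem NonAdj.not_commute {G : Type*} [Group G] {p q : ℕ} (h : NonAdj G p q) (hp : p.Prime)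
    (hq : q.Prime) (hpq : p ≠ q) {x y : G} (hx : orderOf x = p) (hy : orderOf y = q)
    (hc : Commute x y) : False :=
  h ⟨x * y, by rw [hc.orderOf_mul_eq_mul_orderOf_of_coprime
    (by rw [hx, hy]; exact (Nat.coprime_primes hp hq).2 hpq), hx, hy]⟩

/-- non-adjacency passes to images -/
theorem NonAdj.of_surjective {G H : Type*} [Group G] [Finite G] [Group H] {p q : ℕ}
    (h : NonAdj G p q) (f : G →* H) (hf : Function.Surjective f) : NonAdj H p q := by
  rintro ⟨y, hy⟩
  obtain ⟨x, rfl⟩ := hf y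
  have hd : p * q ∣ orderOf x := hy ▸ orderOf_map_dvd f x
  by_cases h0 : p * q = 0
  · exact absurd (Nat.eq_zero_of_zero_dvd (h0 ▸ hd)) (orderOf_pos x).ne'
  obtain ⟨m, hm⟩ := hd
  have hm0 : m ≠ 0 := by
    rintro rfl
    rw [mul_zero] at hm
    exact (orderOf_pos x).ne' hm
  refine h ⟨x ^ m, ?_⟩
  rw [orderOf_pow_of_dvd hm0 (Dvd.intro_left _ hm.symm), hm]
  exact Nat.mul_div_cancel _ (Nat.pos_of_ne_zero hm0)

/-- non-adjacency passes to subgroups -/
theorem NonAdj.of_injective {G H : Type*} [Group G] [Group H] {p q : ℕ}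
    (h : NonAdj G p q) (f : H →* G) (hf : Function.Injective f) : NonAdj H p q := by
  rintro ⟨y, hy⟩
  exact h ⟨f y, by rw [orderOf_injective f hf, hy]⟩

variable {G : Type*} [Group G] [Finite G]

/-- a nontrivial element of a `p`-group has a power of order `p` -/
theorem exists_pow_orderOf {p : ℕ} (hp : p.Prime) {x : G} {P : Subgroup G} (hP : IsPGroup p P)
    (hx : x ∈ P) (hx1 : x ≠ 1) : ∃ n : ℕ, orderOf (x ^ n) = p := by
  have : Fact p.Prime := ⟨hp⟩
  have hd : p ∣ orderOf x := by
    obtain ⟨k, hk⟩ := (IsPGroup.iff_orderOf.1 hP) ⟨x, hx⟩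
    rw [Subgroup.orderOf_mk] at hk
    rcases Nat.eq_zero_or_pos k with h0 | h0
    · rw [h0, pow_zero, orderOf_eq_one_iff] at hk
      exact absurd hk hx1
    · rw [hk]; exact dvd_pow_self p h0.ne'
  refine ⟨orderOf x / p, ?_⟩
  exact orderOf_pow_orderOf_div (orderOf_pos x).ne' hd

/-- the conjugation action of a subgroup `R` normalizing `P` on `P \ {1}` -/
@[reducible] def conjAct (P R : Subgroup G) (hR : R ≤ normalizer (P : Set G)) :
    MulAction R {x : G // x ∈ P ∧ x ≠ 1} where
  smul r x := ⟨r * x.1 * (r : G)⁻¹, (mem_normalizer_iff.1 (hR r.2) x.1).1 x.2.1,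
    fun h => x.2.2 (by rwa [conj_eq_one_iff] at h)⟩
  one_smul x := Subtype.ext (by
    change ((1 : R) : G) * x.1 * ((1 : R) : G)⁻¹ = x.1
    simp)
  mul_smul a b x := Subtype.ext (by
    change ((a * b : R) : G) * x.1 * ((a * b : R) : G)⁻¹ = (a : G) * ((b : G) * x.1 * (b : G)⁻¹) * (a : G)⁻¹
    simp [mul_assoc])

omit [Finite G] in
theorem card_sub_one (P : Subgroup G) :
    Nat.card {x : G // x ∈ P ∧ x ≠ 1} = Nat.card P - 1 := by
  have h1 : Nat.card {x : G // x ∈ P ∧ x ≠ 1} = ((P : Set G) \ {1}).ncard := rfl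
  rw [h1, Set.ncard_sdiff_singleton_of_mem (one_mem P)]
  rfl

/-- **a `q`-subgroup acts freely** on the nontrivial elements of a normalized `p`-subgroup -/
theorem card_dvd_sub_one {p q : ℕ} (hp : p.Prime) (hq : q.Prime) (hpq : p ≠ q) (h : NonAdj G p q)
    {P R : Subgroup G} (hP : IsPGroup p P) (hR : IsPGroup q R) (hn : R ≤ normalizer (P : Set G)) :
    Nat.card R ∣ Nat.card P - 1 := by
  let _ := conjAct P R hn
  have hfree : ∀ x : {x : G // x ∈ P ∧ x ≠ 1}, MulAction.stabilizer R x = ⊥ := by
    intro x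
    rw [eq_bot_iff]
    intro r hr
    by_contra hr1
    rw [Subgroup.mem_bot] at hr1
    have hr1' : (r : G) ≠ 1 := fun h => hr1 (Subtype.ext h)
    have hcomm : Commute (r : G) x.1 := by
      have h1 : (r : G) * x.1 * (r : G)⁻¹ = x.1 := congrArg Subtype.val (MulAction.mem_stabilizer_iff.1 hr)
      exact mul_inv_eq_iff_eq_mul.1 h1
    obtain ⟨m, hm⟩ := exists_pow_orderOf hq hR r.2 hr1'
    obtain ⟨n, hn⟩ := exists_pow_orderOf hp hP x.2.1 x.2.2
    exact h.not_commute hp hq hpq hn hm ((hcomm.pow_pow m n).symm)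
  have := Nat.card_congr (MulAction.selfEquivOrbitsQuotientProd hfree)
  rw [Nat.card_prod, card_sub_one] at this
  exact Dvd.intro_left _ this.symm

/-- the order of a Sylow subgroup of `N`, pushed to `G` -/
theorem card_map_sylow {p : ℕ} [Fact p.Prime] (N : Subgroup G) (P : Sylow p N) :
    Nat.card ((P : Subgroup N).map N.subtype) = p ^ (Nat.card N).factorization p := by
  rw [Subgroup.card_map_of_injective N.subtype_injective]
  exact P.card_eq_multiplicity

/-- **Frattini**: the `q`-part of the index of `N` divides `|N|_p - 1` -/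
theorem frattini_dvd {p q : ℕ} (hp : p.Prime) (hq : q.Prime) (hpq : p ≠ q) (h : NonAdj G p q)
    (N : Subgroup G) [N.Normal] :
    q ^ (N.index).factorization q ∣ p ^ (Nat.card N).factorization p - 1 := by
  have : Fact p.Prime := ⟨hp⟩
  have : Fact q.Prime := ⟨hq⟩
  obtain ⟨P⟩ : Nonempty (Sylow p N) := inferInstance
  set Q : Subgroup G := (P : Subgroup N).map N.subtype with hQ
  set K : Subgroup G := normalizer (Q : Set G) with hK
  have hKN : K ⊔ N = ⊤ := Sylow.normalizer_sup_eq_top P
  have hidx : N.relIndex K = N.index := by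
    rw [← Subgroup.relIndex_sup_right (H := K) (K := N), hKN, Subgroup.relIndex_top_right]
  have hdK : N.index ∣ Nat.card K := hidx ▸ Subgroup.relIndex_dvd_card (H := N) (K := K)
  obtain ⟨R⟩ : Nonempty (Sylow q K) := inferInstance
  set S : Subgroup G := (R : Subgroup K).map K.subtype with hS
  have hcS : Nat.card S = q ^ (Nat.card K).factorization q := card_map_sylow K R
  have hSK : S ≤ K := Subgroup.map_subtype_le _
  have hPp : IsPGroup p Q := P.isPGroup'.map _
  have hSq : IsPGroup q S := R.isPGroup'.map _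
  have h1 := card_dvd_sub_one hp hq hpq h hPp hSq hSK
  rw [hcS, card_map_sylow N P] at h1
  refine dvd_trans (pow_dvd_pow q ?_) h1
  exact (Nat.factorization_le_iff_dvd (Nat.pos_of_ne_zero Subgroup.index_ne_zero_of_finite).ne'
    Nat.card_pos.ne').2 hdK q

/-- an `r`-group acting on a `p`-group of order `p ^ i` with `r ∤ p ^ a - 1` for `1 ≤ a ≤ i` centralizes it -/
theorem le_centralizer_of_not_dvd {p r i : ℕ} (hp : p.Prime) (hr : r.Prime) (hpr : r ≠ p)
    {P R : Subgroup G} (hP : Nat.card P = p ^ i) (hR : IsPGroup r R)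
    (hn : R ≤ normalizer (P : Set G)) (hnd : ∀ a, 1 ≤ a → a ≤ i → ¬ r ∣ p ^ a - 1) :
    R ≤ centralizer (P : Set G) := by
  have : Fact r.Prime := ⟨hr⟩
  have : Fact p.Prime := ⟨hp⟩
  set F : Subgroup G := P ⊓ centralizer (R : Set G) with hF
  have hFP : F ≤ P := inf_le_left
  obtain ⟨c, hci, hc⟩ : ∃ c ≤ i, Nat.card F = p ^ c := by
    have := Subgroup.card_dvd_of_le hFP
    rw [hP] at this
    exact (Nat.dvd_prime_pow hp).1 this
  -- the action of R on P
  let act : MulAction R P :=
    { smul := fun r x => ⟨r * x.1 * (r : G)⁻¹, (mem_normalizer_iff.1 (hn r.2) x.1).1 x.2⟩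
      one_smul := fun x => Subtype.ext (by
        change ((1 : R) : G) * x.1 * ((1 : R) : G)⁻¹ = x.1
        simp)
      mul_smul := fun a b x => Subtype.ext (by
        change ((a * b : R) : G) * x.1 * ((a * b : R) : G)⁻¹ =
          (a : G) * ((b : G) * x.1 * (b : G)⁻¹) * (a : G)⁻¹
        simp [mul_assoc]) }
  have hmod := hR.card_modEq_card_fixedPoints (α := P)
  have hfix : Nat.card (MulAction.fixedPoints R P) = Nat.card F := by
    refine Nat.card_congr ?_
    refine ⟨fun x => ⟨x.1.1, x.1.2, ?_⟩, fun y => ⟨⟨y.1, y.2.1⟩, ?_⟩, fun x => rfl, fun y => rfl⟩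
    · change x.1.1 ∈ centralizer (R : Set G)
      rw [mem_centralizer_iff]
      intro r hr
      have h1 : r * x.1.1 * r⁻¹ = x.1.1 := congrArg Subtype.val (x.2 ⟨r, hr⟩)
      exact mul_inv_eq_iff_eq_mul.1 h1
    · intro r
      refine Subtype.ext ?_
      change (r : G) * y.1 * (r : G)⁻¹ = y.1
      exact mul_inv_eq_iff_eq_mul.2 (mem_centralizer_iff.1 y.2.2 r r.2)
  rw [hfix, hP, hc] at hmod
  have hic : c = i := by
    by_contra hne
    have hlt : c < i := lt_of_le_of_ne hci hne
    have hle : p ^ c ≤ p ^ i := Nat.pow_le_pow_right hp.pos hci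
    have hd : r ∣ p ^ i - p ^ c := (Nat.modEq_iff_dvd' hle).1 hmod.symm
    have he : p ^ i - p ^ c = p ^ c * (p ^ (i - c) - 1) := by
      rw [Nat.mul_sub, mul_one, ← pow_add, Nat.add_sub_cancel' hci]
    rw [he] at hd
    rcases (Nat.Prime.dvd_mul hr).1 hd with h1 | h1
    · exact hpr ((Nat.prime_dvd_prime_iff_eq hr hp).1 (hr.dvd_of_dvd_pow h1))
    · exact hnd (i - c) (by omega) (by omega) h1
  have hFe : F = P := Subgroup.eq_of_le_of_card_ge hFP (by rw [hP, hc, hic])
  have hPc : P ≤ centralizer (R : Set G) := by rw [← hFe]; exact inf_le_right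
  exact Subgroup.le_centralizer_iff.1 hPc

/-- **chief factors**: if `p ∣ |N|` and some prime of `M / N` is not adjacent to `p`, then every prime `r ≠ p`
of the chief factor `M / N` divides some `p ^ a - 1`, `1 ≤ a ≤ v_p |N|`. -/
theorem chief_dvd {p b r : ℕ} (hp : p.Prime) (hb : b.Prime) (hr : r.Prime) (hpb : p ≠ b) (hrp : r ≠ p)
    (h : NonAdj G p b) (N M : Subgroup G) [N.Normal] [M.Normal] (hNM : N ≤ M)
    (hmin : ∀ L : Subgroup G, L.Normal → N ≤ L → L ≤ M → L = N ∨ L = M)
    (hpN : p ∣ Nat.card N) (hbM : b ∣ N.relIndex M) (hrM : r ∣ N.relIndex M) :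
    ∃ a, 1 ≤ a ∧ a ≤ (Nat.card N).factorization p ∧ r ∣ p ^ a - 1 := by
  by_contra hcon
  push Not at hcon
  have : Fact p.Prime := ⟨hp⟩
  have : Fact b.Prime := ⟨hb⟩
  have : Fact r.Prime := ⟨hr⟩
  obtain ⟨P⟩ : Nonempty (Sylow p N) := inferInstance
  set Q : Subgroup G := (P : Subgroup N).map N.subtype with hQ
  set K : Subgroup G := normalizer (Q : Set G) with hK
  have hKN : K ⊔ N = ⊤ := Sylow.normalizer_sup_eq_top P
  obtain ⟨R⟩ : Nonempty (Sylow r K) := inferInstance
  set S : Subgroup G := (R : Subgroup K).map K.subtype with hS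
  have hSK : S ≤ K := Subgroup.map_subtype_le _
  have hSr : IsPGroup r S := R.isPGroup'.map _
  have hSC : S ≤ centralizer (Q : Set G) :=
    le_centralizer_of_not_dvd hp hr hrp (card_map_sylow N P) hSr hSK
      (fun a h1 h2 h3 => hcon a h1 h2 h3)
  set C : Subgroup G := centralizer (Q : Set G) with hC
  have hCK : C ≤ K := Subgroup.centralizer_le_normalizer _
  -- D = C N is normal
  set D : Subgroup G := C ⊔ N with hD
  have hDn : D.Normal := by
    have h1 : K ≤ normalizer (D : Set G) := by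
      have hCn : K ≤ normalizer (C : Set G) := by
        intro k hk
        rw [mem_normalizer_iff]
        intro x
        have key : ∀ g ∈ K, ∀ x ∈ C, g * x * g⁻¹ ∈ C := by
          intro g hg x hx
          rw [hC, mem_centralizer_iff] at hx ⊢
          intro y hy
          have hy' : g⁻¹ * y * g ∈ Q := by
            have := (mem_normalizer_iff.1 (inv_mem hg) y).1 hy
            rwa [inv_inv] at this
          have h2 := hx _ hy'
          calc y * (g * x * g⁻¹) = g * ((g⁻¹ * y * g) * x) * g⁻¹ := by group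
            _ = g * (x * (g⁻¹ * y * g)) * g⁻¹ := by rw [h2]
            _ = (g * x * g⁻¹) * y := by group
        refine ⟨fun hx => key k hk x hx, fun hx => ?_⟩
        have := key k⁻¹ (inv_mem hk) _ hx
        have he : k⁻¹ * (k * x * k⁻¹) * k⁻¹⁻¹ = x := by group
        rwa [he] at this
      intro k hk
      rw [mem_normalizer_iff_map_conj_eq, hD, Subgroup.map_sup,
        mem_normalizer_iff_map_conj_eq.mp (hCn hk)]
      congr 1
      have : k ∈ normalizer (N : Set G) := by rw [Subgroup.normalizer_eq_top]; trivial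
      exact mem_normalizer_iff_map_conj_eq.mp this
    have h2 : N ≤ normalizer (D : Set G) := le_trans le_sup_right Subgroup.le_normalizer
    have h3 : normalizer (D : Set G) = ⊤ := top_le_iff.1 (hKN ▸ sup_le h1 h2)
    exact Subgroup.normalizer_eq_top_iff.1 h3
  have hNL : N ≤ D ⊓ M := le_inf le_sup_right hNM
  rcases hmin (D ⊓ M) inferInstance hNL inf_le_right with hL | hL
  · -- r does not divide the index of D
    have hKD : K ⊔ D = ⊤ := top_le_iff.1 (hKN ▸ sup_le_sup_left le_sup_right K)
    have hidxD : D.relIndex K = D.index := by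
      rw [← Subgroup.relIndex_sup_right (H := K) (K := D), hKD, Subgroup.relIndex_top_right]
    have hrD : ¬ r ∣ D.index := by
      intro hd
      rw [← hidxD] at hd
      have h1 : D.relIndex K ∣ S.relIndex K :=
        Subgroup.relIndex_dvd_of_le_left K (hSC.trans le_sup_left)
      have h2 : S.relIndex K = (R : Subgroup K).index := by
        rw [Subgroup.relIndex, hS]
        congr 1
        exact Subgroup.comap_map_eq_self_of_injective K.subtype_injective _
      rw [h2] at h1
      exact R.not_dvd_index (dvd_trans hd h1)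
    have h1 : N.relIndex M = D.relIndex M := by
      rw [← hL, Subgroup.inf_relIndex_right]
    rw [h1] at hrM
    exact hrD (dvd_trans hrM (Subgroup.relIndex_dvd_index_of_normal D M))
  · have hMD : M ≤ D := by rw [← hL]; exact inf_le_left
    have h1 : N.relIndex M ∣ N.relIndex D := by
      have := Subgroup.relIndex_mul_relIndex N M D hNM hMD
      exact Dvd.intro _ this
    have h2 : N.relIndex D = N.relIndex C := by
      rw [hD, Subgroup.relIndex_sup_right]
    have h3 : b ∣ Nat.card C :=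
      dvd_trans hbM (dvd_trans h1 (h2 ▸ Subgroup.relIndex_dvd_card (H := N) (K := C)))
    obtain ⟨y, hy⟩ := exists_prime_orderOf_dvd_card' b h3
    have hpQ : p ∣ Nat.card Q := by
      rw [card_map_sylow N P]
      exact dvd_pow_self p ((hp.factorization_pos_of_dvd Nat.card_pos.ne' hpN).ne')
    obtain ⟨x, hx⟩ := exists_prime_orderOf_dvd_card' p hpQ
    refine h.not_commute hp hb hpb (x := (x : G)) (y := (y : G)) ?_ ?_ ?_
    · rw [Subgroup.orderOf_coe, hx]
    · rw [Subgroup.orderOf_coe, hy]
    · exact mem_centralizer_iff.1 y.2 x x.2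

end Cfsg.Agent.H154.PG
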