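import Cfsg.Agent.H154.PGCands

/-!
# Prime graph test: the orders of the sporadic groups other than B and M (helper154)

Machine generated certificates: for every order `o` of a nonabelian simple group and every power `o ^ k`
dividing `n`, a tree of forced adjacencies between the prime divisors of `n`.
-/

set_option autoImplicit false

namespace Cfsg.Agent.H154.PG.DataA

open Cfsg Cfsg.Agent.OrdDiv Cfsg.Agent.H154.PG

universe u

def l_m11 : List (ℕ × ℕ) := [(2, 4), (3, 2), (5, 1), (11, 1)]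

def ords_m11 : List ℕ := [60, 360, 660, 7920]

def certs_m11 : List (ℕ × ℕ × ℕ × List (ℕ × ℕ)) := [
  (60, 1, 0, [(3, 2), (5, 3), (11, 5)]),
  (360, 1, 0, [(11, 2), (3, 11), (5, 11)]),
  (660, 1, 0, [(11, 2), (3, 11), (5, 3)])]

set_option maxRecDepth 100000 in
/-- groups of the order of `M11` -/
theorem all_m11 (T : OrderTable.{0})
    (hS : ∀ (S : Type) [Group S] [Finite S], IsSimpleGroup S → IsKnownSimple' S) :
    AllSimple.{u} 7920 :=
  allSimple T hS (l := l_m11) (by decide +kernel) (by decide) (L := ords_m11) (by decide +kernel)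
    (tr0 := [(3, 2), (11, 2), (5, 3)]) (by decide +kernel) (certs := certs_m11) (by decide +kernel)

def l_m12 : List (ℕ × ℕ) := [(2, 6), (3, 3), (5, 1), (11, 1)]

def ords_m12 : List ℕ := [60, 360, 660, 7920, 95040]

def certs_m12 : List (ℕ × ℕ × ℕ × List (ℕ × ℕ)) := [
  (60, 1, 0, [(11, 2), (5, 11), (3, 5)]),
  (360, 1, 0, [(5, 2), (3, 5), (11, 5)]),
  (660, 1, 0, [(5, 2), (3, 5), (11, 3)]),
  (7920, 1, 0, [(11, 2), (3, 11), (5, 3)])]

set_option maxRecDepth 100000 in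
/-- groups of the order of `M12` -/
theorem all_m12 (T : OrderTable.{0})
    (hS : ∀ (S : Type) [Group S] [Finite S], IsSimpleGroup S → IsKnownSimple' S) :
    AllSimple.{u} 95040 :=
  allSimple T hS (l := l_m12) (by decide +kernel) (by decide) (L := ords_m12) (by decide +kernel)
    (tr0 := [(3, 2), (11, 2), (5, 3)]) (by decide +kernel) (certs := certs_m12) (by decide +kernel)

def l_m22 : List (ℕ × ℕ) := [(2, 7), (3, 2), (5, 1), (7, 1), (11, 1)]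

def ords_m22 : List ℕ := [60, 168, 360, 504, 660, 2520, 7920, 20160, 443520]

def certs_m22 : List (ℕ × ℕ × ℕ × List (ℕ × ℕ)) := [
  (60, 1, 0, [(3, 2), (5, 3), (7, 5), (11, 5)]),
  (168, 1, 0, [(3, 2), (5, 3), (7, 5), (11, 7)]),
  (360, 1, 0, [(3, 2), (7, 3), (11, 3), (5, 7)]),
  (504, 1, 0, [(3, 2), (5, 3), (11, 3), (7, 5)]),
  (660, 1, 0, [(5, 2), (3, 5), (11, 3), (7, 5)]),
  (2520, 1, 0, [(3, 2), (11, 3), (5, 11), (7, 11)]),
  (7920, 1, 0, [(5, 2), (7, 5), (3, 7), (11, 7)]),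
  (20160, 1, 0, [(11, 2), (3, 11), (5, 11), (7, 11)])]

set_option maxRecDepth 100000 in
/-- groups of the order of `M22` -/
theorem all_m22 (T : OrderTable.{0})
    (hS : ∀ (S : Type) [Group S] [Finite S], IsSimpleGroup S → IsKnownSimple' S) :
    AllSimple.{u} 443520 :=
  allSimple T hS (l := l_m22) (by decide +kernel) (by decide) (L := ords_m22) (by decide +kernel)
    (tr0 := [(11, 2), (3, 11), (5, 3), (7, 3)]) (by decide +kernel) (certs := certs_m22) (by decide +kernel)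

def l_m23 : List (ℕ × ℕ) := [(2, 7), (3, 2), (5, 1), (7, 1), (11, 1), (23, 1)]

def ords_m23 : List ℕ := [60, 168, 360, 504, 660, 2520, 6072, 7920, 20160, 443520, 10200960]

def certs_m23 : List (ℕ × ℕ × ℕ × List (ℕ × ℕ)) := [
  (60, 1, 0, [(3, 2), (5, 3), (7, 5), (11, 5), (23, 5)]),
  (168, 1, 0, [(3, 2), (5, 3), (7, 5), (11, 7), (23, 7)]),
  (360, 1, 0, [(3, 2), (7, 3), (11, 3), (23, 3), (5, 7)]),
  (504, 1, 0, [(3, 2), (5, 3), (11, 3), (23, 3), (7, 5)]),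
  (660, 1, 0, [(5, 2), (3, 5), (11, 3), (7, 5), (23, 5)]),
  (2520, 1, 0, [(3, 2), (11, 3), (23, 3), (5, 11), (7, 11)]),
  (6072, 1, 0, [(11, 2), (3, 11), (23, 3), (5, 23), (7, 11)]),
  (7920, 1, 0, [(5, 2), (7, 5), (3, 7), (23, 3), (11, 7)]),
  (20160, 1, 0, [(11, 2), (3, 11), (23, 3), (5, 11), (7, 11)]),
  (443520, 1, 0, [(23, 2), (3, 23), (5, 23), (7, 23), (11, 23)])]

set_option maxRecDepth 100000 in
/-- groups of the order of `M23` -/
theorem all_m23 (T : OrderTable.{0})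
    (hS : ∀ (S : Type) [Group S] [Finite S], IsSimpleGroup S → IsKnownSimple' S) :
    AllSimple.{u} 10200960 :=
  allSimple T hS (l := l_m23) (by decide +kernel) (by decide) (L := ords_m23) (by decide +kernel)
    (tr0 := [(11, 2), (23, 2), (3, 11), (5, 3), (7, 3)]) (by decide +kernel) (certs := certs_m23) (by decide +kernel)

def l_m24 : List (ℕ × ℕ) := [(2, 10), (3, 3), (5, 1), (7, 1), (11, 1), (23, 1)]

def ords_m24 : List ℕ := [60, 168, 360, 504, 660, 2520, 6048, 6072, 7920, 20160, 95040, 443520, 10200960, 244823040]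

def certs_m24 : List (ℕ × ℕ × ℕ × List (ℕ × ℕ)) := [
  (60, 1, 0, [(7, 2), (5, 7), (11, 5), (23, 5), (3, 5)]),
  (168, 1, 0, [(5, 2), (7, 5), (11, 7), (23, 7), (3, 7)]),
  (360, 1, 0, [(5, 2), (3, 5), (7, 5), (11, 5), (23, 5)]),
  (504, 1, 0, [(3, 2), (5, 3), (7, 5), (11, 7), (23, 7)]),
  (660, 1, 0, [(5, 2), (7, 5), (23, 5), (11, 7), (3, 5)]),
  (2520, 1, 0, [(5, 2), (3, 5), (11, 5), (23, 5), (7, 11)]),
  (6048, 1, 0, [(3, 2), (5, 3), (11, 3), (23, 3), (7, 5)]),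
  (6072, 1, 0, [(11, 2), (7, 11), (23, 7), (5, 23), (3, 11)]),
  (7920, 1, 0, [(5, 2), (3, 5), (11, 3), (7, 5), (23, 5)]),
  (20160, 1, 0, [(7, 2), (11, 7), (5, 11), (3, 5), (23, 5)]),
  (95040, 1, 0, [(3, 2), (7, 3), (23, 3), (5, 7), (11, 7)]),
  (443520, 1, 0, [(5, 2), (3, 5), (11, 3), (23, 5), (7, 23)]),
  (10200960, 1, 0, [(5, 2), (3, 5), (11, 3), (23, 3), (7, 2)])]

set_option maxRecDepth 100000 in
/-- groups of the order of `M24` -/
theorem all_m24 (T : OrderTable.{0})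
    (hS : ∀ (S : Type) [Group S] [Finite S], IsSimpleGroup S → IsKnownSimple' S) :
    AllSimple.{u} 244823040 :=
  allSimple T hS (l := l_m24) (by decide +kernel) (by decide) (L := ords_m24) (by decide +kernel)
    (tr0 := [(3, 2), (23, 2), (5, 3), (7, 3), (11, 3)]) (by decide +kernel) (certs := certs_m24) (by decide +kernel)

def l_j1 : List (ℕ × ℕ) := [(2, 3), (3, 1), (5, 1), (7, 1), (11, 1), (19, 1)]

def ords_j1 : List ℕ := [60, 168, 660, 175560]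

def certs_j1 : List (ℕ × ℕ × ℕ × List (ℕ × ℕ)) := [
  (60, 1, 0, [(7, 2), (3, 7), (11, 3), (19, 3), (5, 7)]),
  (168, 1, 0, [(5, 2), (11, 2), (19, 2), (3, 5), (7, 5)]),
  (660, 1, 0, [(7, 2), (3, 7), (19, 3), (5, 7), (11, 7)])]

set_option maxRecDepth 100000 in
/-- groups of the order of `J1` -/
theorem all_j1 (T : OrderTable.{0})
    (hS : ∀ (S : Type) [Group S] [Finite S], IsSimpleGroup S → IsKnownSimple' S) :
    AllSimple.{u} 175560 :=
  allSimple T hS (l := l_j1) (by decide +kernel) (by decide) (L := ords_j1) (by decide +kernel)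
    (tr0 := [(5, 2), (11, 2), (19, 2), (3, 5), (7, 5)]) (by decide +kernel) (certs := certs_j1) (by decide +kernel)

def l_j2 : List (ℕ × ℕ) := [(2, 7), (3, 3), (5, 2), (7, 1)]

def ords_j2 : List ℕ := [60, 168, 360, 504, 2520, 6048, 20160, 604800]

def certs_j2 : List (ℕ × ℕ × ℕ × List (ℕ × ℕ)) := [
  (60, 1, 0, [(5, 2), (7, 5), (3, 5)]),
  (60, 2, 0, [(3, 2), (5, 2), (7, 5)]),
  (168, 1, 0, [(3, 2), (7, 3), (5, 7)]),
  (360, 1, 0, [(3, 2), (5, 3), (7, 3)]),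
  (504, 1, 0, [(3, 2), (5, 3), (7, 5)]),
  (2520, 1, 0, [(7, 2), (5, 7), (3, 5)]),
  (6048, 1, 0, [(3, 2), (7, 2), (5, 3)]),
  (20160, 1, 0, [(5, 2), (7, 5), (3, 5)])]

set_option maxRecDepth 100000 in
/-- groups of the order of `J2` -/
theorem all_j2 (T : OrderTable.{0})
    (hS : ∀ (S : Type) [Group S] [Finite S], IsSimpleGroup S → IsKnownSimple' S) :
    AllSimple.{u} 604800 :=
  allSimple T hS (l := l_j2) (by decide +kernel) (by decide) (L := ords_j2) (by decide +kernel)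
    (tr0 := [(3, 2), (5, 2), (7, 3)]) (by decide +kernel) (certs := certs_j2) (by decide +kernel)

def l_j3 : List (ℕ × ℕ) := [(2, 7), (3, 5), (5, 1), (17, 1), (19, 1)]

def ords_j3 : List ℕ := [60, 360, 2448, 3420, 4080, 25920, 50232960]

def certs_j3 : List (ℕ × ℕ × ℕ × List (ℕ × ℕ)) := [
  (60, 1, 0, [(17, 2), (5, 17), (19, 5), (3, 17)]),
  (360, 1, 0, [(17, 2), (5, 17), (19, 5), (3, 5)]),
  (2448, 1, 0, [(19, 2), (17, 19), (5, 17), (3, 17)]),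
  (3420, 1, 0, [(5, 2), (17, 5), (19, 17), (3, 5)]),
  (4080, 1, 0, [(5, 2), (19, 5), (17, 19), (3, 5)]),
  (25920, 1, 0, [(17, 2), (5, 17), (3, 5), (19, 5)])]

set_option maxRecDepth 100000 in
/-- groups of the order of `J3` -/
theorem all_j3 (T : OrderTable.{0})
    (hS : ∀ (S : Type) [Group S] [Finite S], IsSimpleGroup S → IsKnownSimple' S) :
    AllSimple.{u} 50232960 :=
  allSimple T hS (l := l_j3) (by decide +kernel) (by decide) (L := ords_j3) (by decide +kernel)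
    (tr0 := [(3, 2), (17, 2), (19, 2), (5, 17)]) (by decide +kernel) (certs := certs_j3) (by decide +kernel)

def l_j4 : List (ℕ × ℕ) := [(2, 21), (3, 3), (5, 1), (7, 1), (11, 3), (23, 1), (29, 1), (31, 1), (37, 1), (43, 1)]

def ords_j4 : List ℕ := [60, 168, 360, 504, 660, 2520, 6048, 6072, 7920, 12180, 14880, 20160, 32736, 39732, 95040, 443520, 9999360, 10200960, 70915680, 244823040, 86775571046077562880]

def certs_j4 : List (ℕ × ℕ × ℕ × List (ℕ × ℕ)) := [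
  (60, 1, 0, [(5, 2), (7, 5), (23, 5), (29, 5), (37, 5), (43, 5), (3, 5), (31, 3), (11, 3)]),
  (168, 1, 0, [(5, 2), (7, 5), (23, 7), (29, 7), (31, 7), (37, 7), (3, 7), (43, 3), (11, 3)]),
  (360, 1, 0, [(3, 2), (5, 3), (7, 5), (23, 5), (29, 5), (37, 5), (43, 5), (31, 3), (11, 3)]),
  (504, 1, 0, [(3, 2), (5, 3), (7, 5), (23, 7), (29, 7), (31, 7), (37, 7), (43, 3), (11, 3)]),
  (660, 1, 0, [(5, 2), (7, 5), (23, 5), (29, 5), (31, 5), (37, 5), (43, 5), (3, 5), (11, 7)]),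
  (2520, 1, 0, [(3, 2), (5, 3), (23, 5), (29, 5), (31, 5), (37, 5), (43, 5), (7, 23), (11, 3)]),
  (6048, 1, 0, [(3, 2), (5, 3), (23, 3), (29, 3), (31, 3), (37, 3), (43, 3), (7, 5), (11, 3)]),
  (6072, 1, 0, [(23, 2), (5, 23), (7, 23), (29, 23), (31, 23), (37, 23), (43, 23), (3, 23), (11, 23)]),
  (7920, 1, 0, [(3, 2), (5, 3), (7, 5), (23, 5), (29, 5), (31, 5), (37, 5), (43, 5), (11, 3)]),
  (12180, 1, 0, [(5, 2), (23, 5), (31, 5), (37, 5), (43, 5), (7, 23), (29, 23), (3, 5), (11, 5)]),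
  (14880, 1, 0, [(7, 2), (5, 7), (23, 5), (29, 5), (37, 5), (43, 5), (31, 7), (3, 5), (11, 5)]),
  (20160, 1, 0, [(5, 2), (3, 5), (23, 5), (29, 5), (31, 5), (37, 5), (43, 5), (7, 23), (11, 3)]),
  (32736, 1, 0, [(5, 2), (3, 5), (31, 3), (7, 31), (23, 31), (29, 31), (37, 31), (43, 31), (11, 31)]),
  (39732, 1, 0, [(43, 2), (5, 43), (7, 5), (23, 7), (29, 7), (31, 7), (37, 7), (3, 7), (11, 7)]),
  (95040, 1, 0, [(3, 2), (7, 3), (23, 3), (29, 3), (31, 3), (37, 3), (43, 3), (5, 7), (11, 3)]),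
  (443520, 1, 0, [(7, 2), (23, 7), (5, 23), (3, 5), (29, 5), (31, 5), (37, 5), (43, 5), (11, 5)]),
  (9999360, 1, 0, [(5, 2), (3, 5), (23, 5), (29, 5), (37, 5), (43, 5), (7, 23), (31, 23), (11, 5)]),
  (10200960, 1, 0, [(7, 2), (29, 7), (5, 29), (3, 5), (23, 3), (31, 5), (37, 5), (43, 5), (11, 5)]),
  (70915680, 1, 0, [(5, 2), (3, 5), (11, 3), (7, 5), (23, 5), (29, 5), (31, 5), (43, 5), (37, 7)]),
  (244823040, 1, 0, [(3, 2), (29, 3), (31, 3), (37, 3), (43, 3), (5, 29), (7, 29), (23, 29), (11, 3)])]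

set_option maxRecDepth 100000 in
/-- groups of the order of `J4` -/
theorem all_j4 (T : OrderTable.{0})
    (hS : ∀ (S : Type) [Group S] [Finite S], IsSimpleGroup S → IsKnownSimple' S) :
    AllSimple.{u} 86775571046077562880 :=
  allSimple T hS (l := l_j4) (by decide +kernel) (by decide) (L := ords_j4) (by decide +kernel)
    (tr0 := [(11, 2), (29, 2), (37, 2), (3, 11), (5, 3), (7, 3), (23, 3), (31, 3), (43, 3)]) (by decide +kernel) (certs := certs_j4) (by decide +kernel)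

def l_co1 : List (ℕ × ℕ) := [(2, 21), (3, 9), (5, 4), (7, 2), (11, 1), (13, 1), (23, 1)]

def ords_co1 : List ℕ := [60, 168, 360, 504, 660, 1092, 2520, 5616, 6048, 6072, 7800, 7920, 9828, 20160, 25920, 29120, 58800, 62400, 95040, 126000, 181440, 262080, 443520, 604800, 1451520, 1814400, 3265920, 4245696, 4680000, 6065280, 10200960, 13685760, 17971200, 19958400, 42456960, 44352000, 174182400, 211341312, 239500800, 244823040, 251596800, 898128000, 1056706560, 3113510400, 4585351680, 9196830720, 43589145600, 448345497600, 495766656000, 653837184000, 10461394944000, 42305421312000, 64561751654400, 4157776806543360000]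

def certs_co1 : List (ℕ × ℕ × ℕ × List (ℕ × ℕ)) := [
  (60, 1, 0, [(11, 2), (5, 11), (13, 5), (23, 5), (7, 5), (3, 11)]),
  (60, 2, 0, [(3, 2), (5, 2), (11, 5), (13, 5), (23, 5), (7, 5)]),
  (60, 3, 0, [(3, 2), (5, 2), (11, 5), (13, 5), (23, 5), (7, 5)]),
  (60, 4, 0, [(3, 2), (5, 2), (11, 5), (23, 5), (7, 5), (13, 3)]),
  (168, 1, 0, [(7, 2), (11, 7), (13, 7), (23, 7), (5, 7), (3, 7)]),
  (168, 2, 0, [(3, 2), (7, 2), (11, 7), (13, 7), (23, 7), (5, 7)]),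
  (360, 1, 0, [(11, 2), (5, 11), (13, 5), (23, 5), (7, 5), (3, 11)]),
  (360, 2, 0, [(3, 2), (5, 2), (11, 5), (13, 5), (23, 5), (7, 5)]),
  (360, 3, 0, [(3, 2), (5, 2), (11, 5), (13, 5), (23, 5), (7, 5)]),
  (360, 4, 0, [(3, 2), (5, 2), (11, 5), (23, 5), (7, 5), (13, 3)]),
  (504, 1, 0, [(7, 2), (11, 7), (13, 7), (23, 7), (5, 7), (3, 7)]),
  (504, 2, 0, [(3, 2), (7, 2), (11, 7), (13, 7), (23, 7), (5, 7)]),
  (660, 1, 0, [(11, 2), (13, 11), (23, 11), (7, 11), (5, 11), (3, 11)]),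
  (1092, 1, 0, [(13, 2), (7, 13), (11, 13), (23, 13), (5, 13), (3, 13)]),
  (2520, 1, 0, [(7, 2), (11, 7), (13, 7), (23, 7), (5, 7), (3, 7)]),
  (2520, 2, 0, [(3, 2), (5, 2), (7, 2), (11, 7), (13, 7), (23, 7)]),
  (5616, 1, 0, [(13, 2), (11, 13), (23, 13), (7, 13), (3, 11), (5, 3)]),
  (6048, 1, 0, [(7, 2), (11, 7), (13, 7), (23, 7), (5, 7), (3, 7)]),
  (6048, 2, 0, [(3, 2), (7, 2), (11, 7), (13, 7), (23, 7), (5, 7)]),
  (6072, 1, 0, [(11, 2), (13, 11), (23, 13), (7, 11), (5, 11), (3, 11)]),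
  (7800, 1, 0, [(13, 2), (11, 13), (23, 13), (5, 13), (7, 13), (3, 13)]),
  (7920, 1, 0, [(11, 2), (13, 11), (23, 11), (7, 11), (5, 11), (3, 11)]),
  (9828, 1, 0, [(13, 2), (7, 13), (11, 13), (23, 13), (5, 13), (3, 7)]),
  (20160, 1, 0, [(7, 2), (11, 7), (13, 7), (23, 7), (5, 7), (3, 7)]),
  (20160, 2, 0, [(3, 2), (5, 2), (7, 2), (11, 7), (13, 7), (23, 7)]),
  (25920, 1, 0, [(11, 2), (5, 11), (13, 5), (23, 5), (3, 11), (7, 5)]),
  (25920, 2, 0, [(3, 2), (5, 2), (11, 3), (13, 3), (23, 3), (7, 3)]),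
  (29120, 1, 0, [(13, 2), (7, 13), (11, 13), (23, 13), (5, 13), (3, 7)]),
  (58800, 1, 0, [(7, 2), (11, 7), (13, 7), (23, 7), (5, 7), (3, 7)]),
  (62400, 1, 0, [(13, 2), (11, 13), (23, 13), (5, 13), (7, 13), (3, 13)]),
  (95040, 1, 0, [(11, 2), (13, 11), (23, 11), (7, 11), (5, 11), (3, 11)]),
  (126000, 1, 0, [(5, 2), (7, 5), (11, 5), (13, 5), (23, 5), (3, 5)]),
  (181440, 1, 0, [(7, 2), (11, 7), (13, 7), (23, 7), (5, 7), (3, 7)]),
  (181440, 2, 0, [(3, 2), (5, 2), (7, 2), (11, 7), (13, 7), (23, 7)]),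
  (262080, 1, 0, [(13, 2), (7, 13), (11, 13), (23, 13), (5, 13), (3, 7)]),
  (443520, 1, 0, [(11, 2), (7, 11), (13, 11), (23, 11), (5, 11), (3, 11)]),
  (604800, 1, 0, [(7, 2), (11, 7), (13, 7), (23, 7), (5, 7), (3, 7)]),
  (604800, 2, 0, [(3, 2), (5, 2), (7, 2), (11, 5), (23, 5), (13, 7)]),
  (1451520, 1, 0, [(7, 2), (11, 7), (13, 7), (23, 7), (5, 7), (3, 7)]),
  (1451520, 2, 0, [(3, 2), (5, 2), (7, 2), (11, 7), (13, 7), (23, 7)]),
  (1814400, 1, 0, [(7, 2), (11, 7), (13, 7), (23, 7), (5, 7), (3, 7)]),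
  (1814400, 2, 0, [(3, 2), (5, 2), (7, 2), (11, 5), (23, 5), (13, 7)]),
  (3265920, 1, 0, [(7, 2), (11, 7), (13, 7), (23, 7), (3, 7), (5, 7)]),
  (4245696, 1, 0, [(13, 2), (7, 13), (11, 13), (23, 13), (3, 13), (5, 13)]),
  (4680000, 1, 0, [(5, 2), (11, 5), (23, 5), (13, 11), (7, 5), (3, 5)]),
  (6065280, 1, 0, [(11, 2), (13, 11), (23, 13), (7, 13), (3, 13), (5, 13)]),
  (10200960, 1, 0, [(11, 2), (7, 11), (23, 7), (13, 11), (5, 11), (3, 11)]),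
  (13685760, 1, 0, [(13, 2), (11, 13), (23, 11), (7, 11), (5, 11), (3, 11)]),
  (17971200, 1, 0, [(13, 2), (11, 13), (23, 13), (5, 13), (7, 13), (3, 11)]),
  (19958400, 1, 0, [(11, 2), (7, 11), (13, 11), (23, 11), (5, 11), (3, 11)]),
  (42456960, 1, 0, [(7, 2), (13, 7), (11, 13), (23, 13), (3, 13), (5, 13)]),
  (44352000, 1, 0, [(11, 2), (7, 11), (13, 11), (23, 11), (5, 7), (3, 11)]),
  (174182400, 1, 0, [(7, 2), (11, 7), (13, 7), (23, 7), (5, 7), (3, 7)]),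
  (211341312, 1, 0, [(7, 2), (11, 7), (23, 7), (13, 11), (5, 7), (3, 7)]),
  (239500800, 1, 0, [(11, 2), (7, 11), (13, 11), (23, 11), (5, 11), (3, 11)]),
  (244823040, 1, 0, [(11, 2), (7, 11), (23, 7), (13, 11), (5, 11), (3, 11)]),
  (251596800, 1, 0, [(13, 2), (7, 13), (11, 13), (23, 13), (5, 13), (3, 7)]),
  (898128000, 1, 0, [(11, 2), (7, 11), (13, 11), (23, 11), (3, 11), (5, 7)]),
  (1056706560, 1, 0, [(7, 2), (11, 7), (23, 7), (13, 11), (5, 7), (3, 7)]),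
  (3113510400, 1, 0, [(11, 2), (7, 11), (13, 7), (23, 11), (5, 11), (3, 11)]),
  (4585351680, 1, 0, [(3, 2), (7, 3), (11, 3), (23, 3), (13, 7), (5, 3)]),
  (9196830720, 1, 0, [(11, 2), (7, 11), (13, 11), (23, 11), (3, 11), (5, 11)]),
  (43589145600, 1, 0, [(7, 2), (23, 7), (11, 23), (13, 23), (5, 7), (3, 7)]),
  (448345497600, 1, 0, [(11, 2), (7, 11), (13, 7), (23, 11), (3, 11), (5, 11)]),
  (495766656000, 1, 0, [(11, 2), (7, 11), (23, 7), (5, 23), (13, 11), (3, 11)]),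
  (653837184000, 1, 0, [(7, 2), (5, 7), (13, 5), (23, 7), (11, 23), (3, 7)]),
  (10461394944000, 1, 0, [(7, 2), (5, 7), (13, 5), (23, 7), (11, 23), (3, 7)]),
  (42305421312000, 1, 0, [(11, 2), (7, 11), (23, 7), (5, 23), (13, 11), (3, 11)]),
  (64561751654400, 1, 0, [(3, 2), (7, 3), (23, 3), (11, 7), (13, 7), (5, 3)])]

set_option maxRecDepth 100000 in
/-- groups of the order of `Co1` -/
theorem all_co1 (T : OrderTable.{0})
    (hS : ∀ (S : Type) [Group S] [Finite S], IsSimpleGroup S → IsKnownSimple' S) :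
    AllSimple.{u} 4157776806543360000 :=
  allSimple T hS (l := l_co1) (by decide +kernel) (by decide) (L := ords_co1) (by decide +kernel)
    (tr0 := [(3, 2), (5, 2), (7, 3), (23, 3), (11, 5), (13, 7)]) (by decide +kernel) (certs := certs_co1) (by decide +kernel)

def l_co2 : List (ℕ × ℕ) := [(2, 18), (3, 6), (5, 3), (7, 1), (11, 1), (23, 1)]

def ords_co2 : List ℕ := [60, 168, 360, 504, 660, 2520, 6048, 6072, 7920, 20160, 25920, 95040, 126000, 181440, 443520, 604800, 1451520, 1814400, 3265920, 10200960, 13685760, 19958400, 44352000, 174182400, 239500800, 244823040, 898128000, 9196830720, 42305421312000]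

def certs_co2 : List (ℕ × ℕ × ℕ × List (ℕ × ℕ)) := [
  (60, 1, 0, [(7, 2), (5, 7), (11, 5), (23, 5), (3, 7)]),
  (60, 2, 0, [(3, 2), (5, 2), (7, 5), (11, 5), (23, 5)]),
  (60, 3, 0, [(3, 2), (5, 2), (7, 5), (11, 5), (23, 5)]),
  (168, 1, 0, [(11, 2), (7, 11), (23, 7), (5, 7), (3, 7)]),
  (360, 1, 0, [(11, 2), (5, 11), (7, 5), (23, 5), (3, 7)]),
  (360, 2, 0, [(3, 2), (5, 2), (7, 5), (11, 5), (23, 5)]),
  (360, 3, 0, [(3, 2), (5, 2), (11, 3), (23, 3), (7, 5)]),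
  (504, 1, 0, [(11, 2), (7, 11), (23, 7), (5, 7), (3, 7)]),
  (660, 1, 0, [(11, 2), (7, 11), (23, 11), (5, 11), (3, 7)]),
  (2520, 1, 0, [(11, 2), (7, 11), (23, 7), (5, 7), (3, 7)]),
  (6048, 1, 0, [(11, 2), (7, 11), (23, 7), (3, 7), (5, 7)]),
  (6072, 1, 0, [(11, 2), (7, 11), (23, 7), (5, 11), (3, 11)]),
  (7920, 1, 0, [(11, 2), (7, 11), (23, 11), (5, 11), (3, 11)]),
  (20160, 1, 0, [(11, 2), (7, 11), (23, 7), (5, 7), (3, 7)]),
  (25920, 1, 0, [(11, 2), (3, 11), (7, 3), (23, 3), (5, 7)]),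
  (95040, 1, 0, [(11, 2), (7, 11), (23, 11), (5, 11), (3, 11)]),
  (126000, 1, 0, [(5, 2), (11, 5), (23, 5), (7, 11), (3, 5)]),
  (181440, 1, 0, [(11, 2), (7, 11), (23, 7), (3, 7), (5, 7)]),
  (443520, 1, 0, [(7, 2), (23, 7), (11, 23), (5, 7), (3, 7)]),
  (604800, 1, 0, [(7, 2), (5, 7), (11, 7), (23, 7), (3, 7)]),
  (1451520, 1, 0, [(11, 2), (7, 11), (23, 7), (3, 7), (5, 7)]),
  (1814400, 1, 0, [(7, 2), (5, 7), (11, 7), (23, 7), (3, 7)]),
  (3265920, 1, 0, [(3, 2), (11, 3), (23, 3), (7, 11), (5, 3)]),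
  (10200960, 1, 0, [(7, 2), (5, 7), (11, 5), (23, 5), (3, 7)]),
  (13685760, 1, 0, [(11, 2), (3, 11), (7, 11), (23, 11), (5, 11)]),
  (19958400, 1, 0, [(7, 2), (5, 7), (23, 7), (11, 23), (3, 7)]),
  (44352000, 1, 0, [(5, 2), (23, 5), (7, 23), (11, 23), (3, 5)]),
  (174182400, 1, 0, [(3, 2), (5, 3), (7, 5), (11, 7), (23, 7)]),
  (239500800, 1, 0, [(7, 2), (5, 7), (23, 7), (11, 23), (3, 11)]),
  (244823040, 1, 0, [(7, 2), (5, 7), (11, 5), (23, 5), (3, 7)]),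
  (898128000, 1, 0, [(3, 2), (23, 3), (5, 23), (7, 23), (11, 23)]),
  (9196830720, 1, 0, [(7, 2), (23, 7), (3, 23), (11, 23), (5, 3)])]

set_option maxRecDepth 100000 in
/-- groups of the order of `Co2` -/
theorem all_co2 (T : OrderTable.{0})
    (hS : ∀ (S : Type) [Group S] [Finite S], IsSimpleGroup S → IsKnownSimple' S) :
    AllSimple.{u} 42305421312000 :=
  allSimple T hS (l := l_co2) (by decide +kernel) (by decide) (L := ords_co2) (by decide +kernel)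
    (tr0 := [(3, 2), (5, 2), (23, 3), (7, 5), (11, 5)]) (by decide +kernel) (certs := certs_co2) (by decide +kernel)

def l_co3 : List (ℕ × ℕ) := [(2, 10), (3, 7), (5, 3), (7, 1), (11, 1), (23, 1)]

def ords_co3 : List ℕ := [60, 168, 360, 504, 660, 2520, 6048, 6072, 7920, 20160, 25920, 95040, 126000, 181440, 443520, 604800, 1451520, 1814400, 3265920, 10200960, 13685760, 19958400, 44352000, 239500800, 244823040, 898128000, 495766656000]

def certs_co3 : List (ℕ × ℕ × ℕ × List (ℕ × ℕ)) := [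
  (60, 1, 0, [(7, 2), (5, 7), (11, 5), (23, 5), (3, 7)]),
  (60, 2, 0, [(3, 2), (5, 2), (7, 5), (11, 5), (23, 5)]),
  (60, 3, 0, [(3, 2), (5, 2), (7, 5), (11, 5), (23, 5)]),
  (168, 1, 0, [(11, 2), (7, 11), (23, 7), (5, 7), (3, 11)]),
  (360, 1, 0, [(11, 2), (5, 11), (7, 5), (23, 5), (3, 7)]),
  (360, 2, 0, [(3, 2), (5, 2), (7, 5), (11, 5), (23, 5)]),
  (360, 3, 0, [(3, 2), (5, 2), (7, 5), (11, 5), (23, 5)]),
  (504, 1, 0, [(11, 2), (7, 11), (23, 7), (5, 7), (3, 7)]),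
  (660, 1, 0, [(11, 2), (7, 11), (23, 11), (5, 11), (3, 11)]),
  (2520, 1, 0, [(11, 2), (7, 11), (23, 7), (5, 7), (3, 7)]),
  (6048, 1, 0, [(7, 2), (11, 7), (23, 7), (5, 7), (3, 7)]),
  (6072, 1, 0, [(11, 2), (7, 11), (23, 7), (5, 11), (3, 11)]),
  (7920, 1, 0, [(11, 2), (7, 11), (23, 11), (5, 11), (3, 7)]),
  (20160, 1, 0, [(7, 2), (11, 7), (23, 7), (5, 7), (3, 7)]),
  (25920, 1, 0, [(11, 2), (5, 11), (7, 5), (23, 5), (3, 7)]),
  (95040, 1, 0, [(11, 2), (7, 11), (23, 11), (5, 11), (3, 11)]),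
  (126000, 1, 0, [(5, 2), (11, 5), (23, 5), (7, 11), (3, 5)]),
  (181440, 1, 0, [(7, 2), (11, 7), (23, 7), (5, 7), (3, 7)]),
  (443520, 1, 0, [(7, 2), (23, 7), (11, 23), (5, 7), (3, 7)]),
  (604800, 1, 0, [(7, 2), (5, 7), (11, 7), (23, 7), (3, 7)]),
  (1451520, 1, 0, [(11, 2), (7, 11), (23, 7), (5, 7), (3, 7)]),
  (1814400, 1, 0, [(7, 2), (5, 7), (11, 7), (23, 7), (3, 7)]),
  (3265920, 1, 0, [(7, 2), (11, 7), (23, 7), (5, 7), (3, 11)]),
  (10200960, 1, 0, [(7, 2), (5, 7), (11, 5), (23, 5), (3, 7)]),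
  (13685760, 1, 0, [(7, 2), (23, 2), (11, 7), (3, 2), (5, 2)]),
  (19958400, 1, 0, [(7, 2), (5, 7), (23, 7), (11, 23), (3, 7)]),
  (44352000, 1, 0, [(23, 2), (5, 23), (7, 23), (11, 23), (3, 5)]),
  (239500800, 1, 0, [(5, 2), (7, 5), (23, 7), (11, 23), (3, 7)]),
  (244823040, 1, 0, [(5, 2), (7, 5), (11, 5), (23, 5), (3, 2)]),
  (898128000, 1, 0, [(5, 2), (3, 5), (11, 3), (23, 5), (7, 23)])]

set_option maxRecDepth 100000 in
/-- groups of the order of `Co3` -/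
theorem all_co3 (T : OrderTable.{0})
    (hS : ∀ (S : Type) [Group S] [Finite S], IsSimpleGroup S → IsKnownSimple' S) :
    AllSimple.{u} 495766656000 :=
  allSimple T hS (l := l_co3) (by decide +kernel) (by decide) (L := ords_co3) (by decide +kernel)
    (tr0 := [(3, 2), (5, 2), (23, 2), (7, 5), (11, 5)]) (by decide +kernel) (certs := certs_co3) (by decide +kernel)

def l_fi22 : List (ℕ × ℕ) := [(2, 17), (3, 9), (5, 2), (7, 1), (11, 1), (13, 1)]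

def ords_fi22 : List ℕ := [60, 168, 360, 504, 660, 1092, 2520, 5616, 6048, 7800, 7920, 9828, 20160, 25920, 29120, 62400, 95040, 181440, 262080, 443520, 604800, 1451520, 1814400, 3265920, 4245696, 6065280, 13685760, 17971200, 19958400, 42456960, 174182400, 239500800, 251596800, 3113510400, 4585351680, 9196830720, 448345497600, 64561751654400]

def certs_fi22 : List (ℕ × ℕ × ℕ × List (ℕ × ℕ)) := [
  (60, 1, 0, [(5, 2), (7, 5), (11, 5), (13, 5), (3, 5)]),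
  (60, 2, 0, [(3, 2), (5, 2), (7, 5), (11, 5), (13, 5)]),
  (168, 1, 0, [(7, 2), (11, 7), (13, 7), (5, 7), (3, 7)]),
  (360, 1, 0, [(5, 2), (7, 5), (11, 5), (13, 5), (3, 5)]),
  (360, 2, 0, [(3, 2), (5, 2), (7, 5), (11, 5), (13, 5)]),
  (504, 1, 0, [(7, 2), (11, 7), (13, 7), (5, 7), (3, 11)]),
  (660, 1, 0, [(11, 2), (7, 11), (13, 11), (5, 7), (3, 11)]),
  (1092, 1, 0, [(13, 2), (11, 13), (7, 11), (5, 7), (3, 7)]),
  (2520, 1, 0, [(7, 2), (5, 7), (11, 7), (13, 7), (3, 5)]),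
  (5616, 1, 0, [(7, 2), (13, 7), (11, 13), (5, 13), (3, 7)]),
  (6048, 1, 0, [(11, 2), (7, 11), (13, 7), (5, 7), (3, 11)]),
  (7800, 1, 0, [(5, 2), (7, 5), (11, 5), (13, 7), (3, 5)]),
  (7920, 1, 0, [(11, 2), (7, 11), (13, 11), (5, 7), (3, 11)]),
  (9828, 1, 0, [(13, 2), (11, 13), (7, 11), (5, 7), (3, 11)]),
  (20160, 1, 0, [(7, 2), (5, 7), (11, 7), (13, 7), (3, 5)]),
  (25920, 1, 0, [(5, 2), (7, 5), (11, 5), (13, 5), (3, 5)]),
  (25920, 2, 0, [(3, 2), (5, 2), (7, 5), (11, 5), (13, 5)]),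
  (29120, 1, 0, [(7, 2), (5, 7), (13, 5), (11, 7), (3, 7)]),
  (62400, 1, 0, [(5, 2), (7, 5), (11, 5), (13, 7), (3, 5)]),
  (95040, 1, 0, [(5, 2), (7, 5), (11, 7), (13, 11), (3, 11)]),
  (181440, 1, 0, [(7, 2), (5, 7), (11, 7), (13, 7), (3, 7)]),
  (262080, 1, 0, [(7, 2), (5, 7), (13, 5), (11, 7), (3, 5)]),
  (443520, 1, 0, [(7, 2), (5, 7), (13, 7), (11, 13), (3, 11)]),
  (604800, 1, 0, [(5, 2), (11, 5), (13, 5), (7, 11), (3, 5)]),
  (1451520, 1, 0, [(7, 2), (5, 7), (11, 7), (13, 7), (3, 7)]),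
  (1814400, 1, 0, [(5, 2), (11, 5), (13, 5), (7, 11), (3, 5)]),
  (3265920, 1, 0, [(5, 2), (7, 5), (11, 7), (13, 7), (3, 7)]),
  (4245696, 1, 0, [(7, 2), (11, 7), (13, 11), (5, 7), (3, 7)]),
  (6065280, 1, 0, [(13, 2), (5, 13), (7, 13), (11, 13), (3, 13)]),
  (13685760, 1, 0, [(11, 2), (7, 11), (13, 11), (5, 7), (3, 11)]),
  (17971200, 1, 0, [(5, 2), (7, 5), (11, 5), (13, 7), (3, 5)]),
  (19958400, 1, 0, [(5, 2), (13, 5), (7, 13), (11, 13), (3, 5)]),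
  (42456960, 1, 0, [(7, 2), (5, 7), (13, 5), (11, 7), (3, 7)]),
  (174182400, 1, 0, [(5, 2), (11, 5), (13, 5), (7, 11), (3, 5)]),
  (239500800, 1, 0, [(5, 2), (13, 5), (7, 13), (11, 13), (3, 5)]),
  (251596800, 1, 0, [(5, 2), (11, 5), (7, 11), (13, 11), (3, 5)]),
  (3113510400, 1, 0, [(5, 2), (3, 5), (7, 3), (11, 3), (13, 3)]),
  (4585351680, 1, 0, [(3, 2), (5, 3), (11, 3), (7, 5), (13, 5)]),
  (9196830720, 1, 0, [(7, 2), (5, 7), (13, 7), (11, 13), (3, 7)]),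
  (448345497600, 1, 0, [(5, 2), (3, 5), (7, 3), (11, 3), (13, 3)])]

set_option maxRecDepth 100000 in
/-- groups of the order of `Fi22` -/
theorem all_fi22 (T : OrderTable.{0})
    (hS : ∀ (S : Type) [Group S] [Finite S], IsSimpleGroup S → IsKnownSimple' S) :
    AllSimple.{u} 64561751654400 :=
  allSimple T hS (l := l_fi22) (by decide +kernel) (by decide) (L := ords_fi22) (by decide +kernel)
    (tr0 := [(3, 2), (5, 2), (7, 5), (11, 5), (13, 5)]) (by decide +kernel) (certs := certs_fi22) (by decide +kernel)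

def l_fi23 : List (ℕ × ℕ) := [(2, 18), (3, 13), (5, 2), (7, 1), (11, 1), (13, 1), (17, 1), (23, 1)]

def ords_fi23 : List ℕ := [60, 168, 360, 504, 660, 1092, 2448, 2520, 4080, 5616, 6048, 6072, 7800, 7920, 9828, 20160, 25920, 29120, 62400, 95040, 181440, 262080, 443520, 604800, 979200, 1451520, 1814400, 3265920, 4245696, 6065280, 10200960, 13685760, 17971200, 19958400, 42456960, 174182400, 197406720, 239500800, 244823040, 251596800, 987033600, 1425715200, 3113510400, 4585351680, 9196830720, 47377612800, 448345497600, 4952179814400, 64561751654400, 4089470473293004800]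

def certs_fi23 : List (ℕ × ℕ × ℕ × List (ℕ × ℕ)) := [
  (60, 1, 0, [(5, 2), (7, 5), (11, 5), (13, 5), (17, 5), (23, 5), (3, 5)]),
  (60, 2, 0, [(3, 2), (5, 2), (7, 5), (11, 5), (13, 5), (17, 5), (23, 5)]),
  (168, 1, 0, [(11, 2), (7, 11), (13, 7), (17, 7), (23, 7), (5, 7), (3, 11)]),
  (360, 1, 0, [(5, 2), (7, 5), (11, 5), (13, 5), (17, 5), (23, 5), (3, 5)]),
  (360, 2, 0, [(3, 2), (5, 2), (7, 5), (11, 5), (13, 5), (17, 5), (23, 5)]),
  (504, 1, 0, [(11, 2), (7, 11), (13, 7), (17, 7), (23, 7), (5, 7), (3, 7)]),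
  (660, 1, 0, [(11, 2), (7, 11), (13, 11), (17, 11), (23, 11), (5, 7), (3, 11)]),
  (1092, 1, 0, [(13, 2), (11, 13), (7, 11), (17, 7), (23, 7), (5, 7), (3, 11)]),
  (2448, 1, 0, [(17, 2), (7, 17), (11, 17), (13, 17), (23, 17), (5, 17), (3, 17)]),
  (2520, 1, 0, [(5, 2), (7, 5), (11, 7), (13, 7), (17, 7), (23, 7), (3, 7)]),
  (4080, 1, 0, [(17, 2), (5, 17), (7, 17), (11, 17), (13, 17), (23, 17), (3, 17)]),
  (5616, 1, 0, [(7, 2), (13, 7), (11, 13), (17, 13), (23, 13), (5, 13), (3, 7)]),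
  (6048, 1, 0, [(11, 2), (7, 11), (13, 7), (17, 7), (23, 7), (5, 7), (3, 7)]),
  (6072, 1, 0, [(11, 2), (7, 11), (23, 7), (13, 11), (17, 11), (5, 11), (3, 11)]),
  (7800, 1, 0, [(5, 2), (7, 5), (11, 5), (17, 5), (23, 5), (13, 7), (3, 5)]),
  (7920, 1, 0, [(11, 2), (7, 11), (13, 11), (17, 11), (23, 11), (5, 7), (3, 11)]),
  (9828, 1, 0, [(13, 2), (11, 13), (7, 11), (17, 7), (23, 7), (5, 7), (3, 7)]),
  (20160, 1, 0, [(5, 2), (7, 5), (11, 7), (13, 7), (17, 7), (23, 7), (3, 7)]),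
  (25920, 1, 0, [(5, 2), (7, 5), (11, 5), (13, 5), (17, 5), (23, 5), (3, 5)]),
  (25920, 2, 0, [(3, 2), (5, 2), (7, 5), (11, 5), (13, 5), (17, 5), (23, 5)]),
  (29120, 1, 0, [(5, 2), (7, 5), (13, 5), (11, 7), (17, 7), (23, 7), (3, 5)]),
  (62400, 1, 0, [(5, 2), (7, 5), (11, 5), (17, 5), (23, 5), (13, 7), (3, 5)]),
  (95040, 1, 0, [(11, 2), (7, 11), (13, 11), (17, 11), (23, 11), (5, 7), (3, 5)]),
  (181440, 1, 0, [(5, 2), (7, 5), (11, 7), (13, 7), (17, 7), (23, 7), (3, 7)]),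
  (262080, 1, 0, [(5, 2), (7, 5), (13, 5), (11, 7), (17, 7), (23, 7), (3, 7)]),
  (443520, 1, 0, [(7, 2), (5, 7), (13, 7), (17, 7), (23, 7), (11, 13), (3, 7)]),
  (604800, 1, 0, [(5, 2), (11, 5), (13, 5), (17, 5), (23, 5), (7, 11), (3, 5)]),
  (979200, 1, 0, [(5, 2), (7, 5), (11, 5), (13, 5), (23, 5), (17, 7), (3, 5)]),
  (1451520, 1, 0, [(5, 2), (7, 5), (11, 7), (13, 7), (17, 7), (23, 7), (3, 7)]),
  (1814400, 1, 0, [(5, 2), (11, 5), (13, 5), (17, 5), (23, 5), (7, 11), (3, 5)]),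
  (3265920, 1, 0, [(7, 2), (5, 7), (11, 7), (13, 7), (17, 7), (23, 7), (3, 5)]),
  (4245696, 1, 0, [(11, 2), (7, 11), (17, 7), (23, 7), (13, 11), (5, 7), (3, 11)]),
  (6065280, 1, 0, [(13, 2), (5, 13), (7, 13), (11, 13), (17, 13), (23, 13), (3, 5)]),
  (10200960, 1, 0, [(7, 2), (5, 7), (23, 5), (13, 7), (17, 7), (11, 13), (3, 7)]),
  (13685760, 1, 0, [(11, 2), (7, 11), (13, 11), (17, 11), (23, 11), (5, 7), (3, 11)]),
  (17971200, 1, 0, [(5, 2), (7, 5), (11, 5), (17, 5), (23, 5), (13, 7), (3, 5)]),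
  (19958400, 1, 0, [(5, 2), (13, 5), (17, 5), (23, 5), (7, 13), (11, 13), (3, 5)]),
  (42456960, 1, 0, [(7, 2), (5, 7), (13, 5), (11, 7), (17, 7), (23, 7), (3, 5)]),
  (174182400, 1, 0, [(5, 2), (11, 5), (13, 5), (17, 5), (23, 5), (7, 11), (3, 5)]),
  (197406720, 1, 0, [(7, 2), (5, 7), (17, 5), (11, 7), (13, 7), (23, 7), (3, 7)]),
  (239500800, 1, 0, [(5, 2), (13, 5), (17, 5), (23, 5), (7, 13), (11, 13), (3, 5)]),
  (244823040, 1, 0, [(7, 2), (5, 7), (23, 5), (13, 7), (17, 7), (11, 13), (3, 7)]),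
  (251596800, 1, 0, [(5, 2), (11, 5), (17, 5), (23, 5), (7, 11), (13, 11), (3, 5)]),
  (987033600, 1, 0, [(5, 2), (11, 5), (13, 5), (23, 5), (7, 11), (17, 11), (3, 5)]),
  (1425715200, 1, 0, [(5, 2), (11, 5), (23, 5), (7, 11), (13, 11), (17, 11), (3, 5)]),
  (3113510400, 1, 0, [(5, 2), (17, 5), (23, 5), (7, 17), (11, 17), (13, 17), (3, 5)]),
  (4585351680, 1, 0, [(7, 2), (5, 7), (13, 5), (11, 7), (17, 7), (23, 7), (3, 7)]),
  (9196830720, 1, 0, [(7, 2), (5, 7), (13, 7), (17, 7), (23, 7), (11, 13), (3, 11)]),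
  (47377612800, 1, 0, [(7, 2), (11, 7), (5, 11), (13, 5), (23, 5), (17, 11), (3, 5)]),
  (448345497600, 1, 0, [(5, 2), (17, 5), (23, 5), (7, 17), (11, 17), (13, 17), (3, 5)]),
  (4952179814400, 1, 0, [(5, 2), (11, 5), (17, 5), (23, 5), (7, 11), (13, 11), (3, 11)]),
  (64561751654400, 1, 0, [(17, 2), (5, 17), (23, 5), (7, 17), (11, 17), (13, 17), (3, 5)])]

set_option maxRecDepth 100000 in
/-- groups of the order of `Fi23` -/
theorem all_fi23 (T : OrderTable.{0})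
    (hS : ∀ (S : Type) [Group S] [Finite S], IsSimpleGroup S → IsKnownSimple' S) :
    AllSimple.{u} 4089470473293004800 :=
  allSimple T hS (l := l_fi23) (by decide +kernel) (by decide) (L := ords_fi23) (by decide +kernel)
    (tr0 := [(3, 2), (5, 2), (17, 3), (7, 5), (11, 5), (13, 5), (23, 5)]) (by decide +kernel) (certs := certs_fi23) (by decide +kernel)

def l_fi24p : List (ℕ × ℕ) := [(2, 21), (3, 16), (5, 2), (7, 3), (11, 1), (13, 1), (17, 1), (23, 1), (29, 1)]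

def ords_fi24p : List ℕ := [60, 168, 360, 504, 660, 1092, 2448, 2520, 4080, 5616, 6048, 6072, 7800, 7920, 9828, 12180, 20160, 25920, 29120, 58800, 62400, 95040, 181440, 262080, 443520, 604800, 979200, 1451520, 1814400, 3265920, 4245696, 6065280, 10200960, 13685760, 17971200, 19958400, 42456960, 174182400, 197406720, 211341312, 239500800, 244823040, 251596800, 987033600, 1056706560, 1425715200, 3113510400, 4030387200, 4585351680, 9196830720, 43589145600, 47377612800, 448345497600, 4952179814400, 25015379558400, 64561751654400, 4089470473293004800, 1255205709190661721292800]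

def certs_fi24p : List (ℕ × ℕ × ℕ × List (ℕ × ℕ)) := [
  (60, 1, 0, [(5, 2), (11, 5), (13, 5), (17, 5), (23, 5), (29, 5), (7, 5), (3, 5)]),
  (60, 2, 0, [(3, 2), (5, 2), (11, 5), (13, 5), (17, 5), (23, 5), (29, 5), (7, 5)]),
  (168, 1, 0, [(11, 2), (7, 11), (13, 7), (17, 7), (23, 7), (29, 7), (5, 7), (3, 11)]),
  (168, 2, 0, [(3, 2), (7, 2), (11, 7), (13, 7), (17, 7), (23, 7), (29, 7), (5, 7)]),
  (168, 3, 0, [(3, 2), (7, 2), (11, 7), (13, 7), (17, 7), (23, 7), (29, 7), (5, 7)]),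
  (360, 1, 0, [(5, 2), (11, 5), (13, 5), (17, 5), (23, 5), (29, 5), (7, 5), (3, 5)]),
  (360, 2, 0, [(3, 2), (5, 2), (11, 5), (13, 5), (17, 5), (23, 5), (29, 5), (7, 5)]),
  (504, 1, 0, [(11, 2), (7, 11), (13, 7), (17, 7), (23, 7), (29, 7), (5, 7), (3, 11)]),
  (504, 2, 0, [(3, 2), (7, 2), (11, 7), (13, 7), (17, 7), (23, 7), (29, 7), (5, 7)]),
  (504, 3, 0, [(3, 2), (7, 2), (11, 7), (13, 7), (17, 7), (23, 7), (29, 7), (5, 7)]),
  (660, 1, 0, [(11, 2), (13, 11), (17, 11), (23, 11), (29, 11), (5, 13), (7, 11), (3, 5)]),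
  (1092, 1, 0, [(13, 2), (11, 13), (17, 13), (23, 13), (29, 13), (5, 13), (7, 13), (3, 11)]),
  (2448, 1, 0, [(11, 2), (17, 11), (13, 17), (23, 17), (29, 17), (5, 17), (7, 17), (3, 17)]),
  (2520, 1, 0, [(5, 2), (11, 5), (13, 5), (17, 5), (23, 5), (29, 5), (7, 5), (3, 5)]),
  (2520, 2, 0, [(3, 2), (5, 2), (7, 2), (11, 5), (13, 5), (17, 5), (23, 5), (29, 5)]),
  (4080, 1, 0, [(5, 2), (17, 5), (11, 17), (13, 17), (23, 17), (29, 17), (7, 17), (3, 17)]),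
  (5616, 1, 0, [(13, 2), (11, 13), (17, 13), (23, 13), (29, 13), (5, 13), (7, 13), (3, 11)]),
  (6048, 1, 0, [(11, 2), (7, 11), (13, 7), (17, 7), (23, 7), (29, 7), (5, 7), (3, 11)]),
  (6048, 2, 0, [(3, 2), (7, 2), (11, 7), (13, 7), (17, 7), (23, 7), (29, 7), (5, 7)]),
  (6048, 3, 0, [(3, 2), (7, 2), (11, 7), (13, 7), (17, 7), (23, 7), (29, 7), (5, 7)]),
  (6072, 1, 0, [(11, 2), (13, 11), (17, 11), (29, 11), (23, 13), (5, 11), (7, 11), (3, 23)]),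
  (7800, 1, 0, [(5, 2), (11, 5), (17, 5), (23, 5), (29, 5), (13, 11), (7, 5), (3, 5)]),
  (7920, 1, 0, [(11, 2), (13, 11), (17, 11), (23, 11), (29, 11), (5, 13), (7, 11), (3, 11)]),
  (9828, 1, 0, [(13, 2), (11, 13), (17, 13), (23, 13), (29, 13), (5, 13), (7, 13), (3, 11)]),
  (12180, 1, 0, [(29, 2), (5, 29), (11, 29), (13, 29), (17, 29), (23, 29), (7, 29), (3, 29)]),
  (20160, 1, 0, [(5, 2), (11, 5), (13, 5), (17, 5), (23, 5), (29, 5), (7, 5), (3, 5)]),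
  (20160, 2, 0, [(3, 2), (5, 2), (7, 2), (11, 5), (13, 5), (17, 5), (23, 5), (29, 5)]),
  (25920, 1, 0, [(5, 2), (11, 5), (13, 5), (17, 5), (23, 5), (29, 5), (7, 5), (3, 5)]),
  (25920, 2, 0, [(3, 2), (5, 2), (11, 5), (13, 5), (17, 5), (23, 5), (29, 5), (7, 5)]),
  (29120, 1, 0, [(13, 2), (5, 13), (11, 13), (17, 13), (23, 13), (29, 13), (7, 13), (3, 7)]),
  (58800, 1, 0, [(5, 2), (7, 5), (11, 5), (13, 5), (17, 5), (23, 5), (29, 5), (3, 5)]),
  (62400, 1, 0, [(5, 2), (11, 5), (17, 5), (23, 5), (29, 5), (13, 11), (7, 5), (3, 5)]),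
  (95040, 1, 0, [(11, 2), (13, 11), (17, 11), (23, 11), (29, 11), (5, 13), (7, 11), (3, 11)]),
  (181440, 1, 0, [(5, 2), (11, 5), (13, 5), (17, 5), (23, 5), (29, 5), (7, 5), (3, 5)]),
  (181440, 2, 0, [(3, 2), (5, 2), (7, 2), (11, 5), (13, 5), (17, 5), (23, 5), (29, 5)]),
  (262080, 1, 0, [(13, 2), (5, 13), (11, 13), (17, 13), (23, 13), (29, 13), (7, 13), (3, 13)]),
  (443520, 1, 0, [(11, 2), (13, 11), (17, 11), (23, 11), (29, 11), (7, 11), (5, 13), (3, 11)]),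
  (604800, 1, 0, [(5, 2), (11, 5), (13, 5), (17, 5), (23, 5), (29, 5), (7, 5), (3, 5)]),
  (979200, 1, 0, [(5, 2), (11, 5), (13, 5), (23, 5), (29, 5), (17, 11), (7, 5), (3, 5)]),
  (1451520, 1, 0, [(5, 2), (11, 5), (13, 5), (17, 5), (23, 5), (29, 5), (7, 5), (3, 5)]),
  (1451520, 2, 0, [(3, 2), (5, 2), (7, 2), (11, 5), (13, 5), (17, 5), (23, 5), (29, 5)]),
  (1814400, 1, 0, [(5, 2), (11, 5), (13, 5), (17, 5), (23, 5), (29, 5), (7, 5), (3, 5)]),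
  (3265920, 1, 0, [(5, 2), (11, 5), (13, 5), (17, 5), (23, 5), (29, 5), (7, 5), (3, 5)]),
  (3265920, 2, 0, [(3, 2), (5, 2), (7, 2), (11, 5), (13, 5), (17, 5), (23, 5), (29, 5)]),
  (4245696, 1, 0, [(13, 2), (11, 13), (17, 13), (23, 13), (29, 13), (5, 13), (7, 13), (3, 11)]),
  (6065280, 1, 0, [(5, 2), (13, 5), (11, 13), (17, 13), (23, 13), (29, 13), (7, 13), (3, 5)]),
  (10200960, 1, 0, [(11, 2), (13, 11), (17, 11), (29, 11), (23, 13), (5, 23), (7, 11), (3, 11)]),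
  (13685760, 1, 0, [(5, 2), (13, 5), (11, 13), (17, 11), (23, 11), (29, 11), (7, 11), (3, 11)]),
  (17971200, 1, 0, [(5, 2), (11, 5), (17, 5), (23, 5), (29, 5), (13, 11), (7, 5), (3, 5)]),
  (19958400, 1, 0, [(5, 2), (13, 5), (17, 5), (23, 5), (29, 5), (11, 13), (7, 5), (3, 5)]),
  (42456960, 1, 0, [(5, 2), (13, 5), (11, 13), (17, 13), (23, 13), (29, 13), (7, 13), (3, 5)]),
  (174182400, 1, 0, [(5, 2), (11, 5), (13, 5), (17, 5), (23, 5), (29, 5), (7, 5), (3, 5)]),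
  (197406720, 1, 0, [(5, 2), (17, 5), (11, 17), (13, 17), (23, 17), (29, 17), (7, 17), (3, 17)]),
  (211341312, 1, 0, [(13, 2), (7, 13), (11, 13), (17, 13), (23, 13), (29, 13), (5, 13), (3, 7)]),
  (239500800, 1, 0, [(5, 2), (13, 5), (17, 5), (23, 5), (29, 5), (11, 13), (7, 5), (3, 5)]),
  (244823040, 1, 0, [(11, 2), (13, 11), (17, 11), (29, 11), (23, 13), (5, 23), (7, 11), (3, 11)]),
  (251596800, 1, 0, [(5, 2), (11, 5), (17, 5), (23, 5), (29, 5), (13, 11), (7, 5), (3, 5)]),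
  (987033600, 1, 0, [(5, 2), (11, 5), (13, 5), (23, 5), (29, 5), (17, 11), (7, 5), (3, 5)]),
  (1056706560, 1, 0, [(13, 2), (5, 13), (7, 13), (11, 13), (17, 13), (23, 13), (29, 13), (3, 5)]),
  (1425715200, 1, 0, [(5, 2), (11, 5), (23, 5), (29, 5), (13, 11), (17, 11), (7, 5), (3, 5)]),
  (3113510400, 1, 0, [(5, 2), (17, 5), (23, 5), (29, 5), (11, 17), (13, 17), (7, 5), (3, 5)]),
  (4030387200, 1, 0, [(5, 2), (11, 5), (13, 5), (23, 5), (29, 5), (7, 11), (17, 11), (3, 5)]),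
  (4585351680, 1, 0, [(5, 2), (13, 5), (11, 13), (17, 13), (23, 13), (29, 13), (7, 13), (3, 5)]),
  (9196830720, 1, 0, [(11, 2), (13, 11), (17, 11), (23, 11), (29, 11), (7, 11), (5, 13), (3, 5)]),
  (43589145600, 1, 0, [(5, 2), (7, 5), (17, 5), (23, 5), (29, 5), (11, 7), (13, 7), (3, 5)]),
  (47377612800, 1, 0, [(5, 2), (11, 5), (13, 5), (23, 5), (29, 5), (17, 11), (7, 5), (3, 5)]),
  (448345497600, 1, 0, [(5, 2), (17, 5), (23, 5), (29, 5), (11, 17), (13, 17), (7, 5), (3, 5)]),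
  (4952179814400, 1, 0, [(5, 2), (11, 5), (17, 5), (23, 5), (29, 5), (13, 11), (7, 5), (3, 5)]),
  (25015379558400, 1, 0, [(13, 2), (5, 13), (23, 5), (29, 5), (11, 13), (17, 13), (7, 5), (3, 5)]),
  (64561751654400, 1, 0, [(5, 2), (17, 5), (23, 5), (29, 5), (11, 17), (13, 17), (7, 5), (3, 5)]),
  (4089470473293004800, 1, 0, [(11, 2), (29, 11), (5, 29), (13, 29), (17, 29), (23, 29), (7, 5), (3, 5)])]

set_option maxRecDepth 100000 in
/-- groups of the order of `Fi24'` -/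
theorem all_fi24p (T : OrderTable.{0})
    (hS : ∀ (S : Type) [Group S] [Finite S], IsSimpleGroup S → IsKnownSimple' S) :
    AllSimple.{u} 1255205709190661721292800 :=
  allSimple T hS (l := l_fi24p) (by decide +kernel) (by decide) (L := ords_fi24p) (by decide +kernel)
    (tr0 := [(3, 2), (7, 2), (29, 2), (5, 3), (11, 5), (13, 5), (17, 5), (23, 5)]) (by decide +kernel) (certs := certs_fi24p) (by decide +kernel)

def l_hs : List (ℕ × ℕ) := [(2, 9), (3, 2), (5, 3), (7, 1), (11, 1)]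

def ords_hs : List ℕ := [60, 168, 360, 504, 660, 2520, 7920, 20160, 126000, 443520, 44352000]

def certs_hs : List (ℕ × ℕ × ℕ × List (ℕ × ℕ)) := [
  (60, 1, 0, [(7, 2), (3, 7), (11, 3), (5, 3)]),
  (60, 2, 0, [(3, 2), (5, 2), (7, 3), (11, 3)]),
  (168, 1, 0, [(3, 2), (11, 3), (7, 11), (5, 7)]),
  (360, 1, 0, [(11, 2), (3, 11), (7, 3), (5, 3)]),
  (504, 1, 0, [(11, 2), (3, 11), (7, 11), (5, 3)]),
  (660, 1, 0, [(11, 2), (3, 11), (7, 11), (5, 11)]),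
  (2520, 1, 0, [(11, 2), (3, 11), (7, 11), (5, 3)]),
  (7920, 1, 0, [(3, 2), (7, 3), (11, 7), (5, 3)]),
  (20160, 1, 0, [(7, 2), (11, 7), (3, 11), (5, 3)]),
  (126000, 1, 0, [(3, 2), (11, 3), (5, 11), (7, 11)]),
  (443520, 1, 0, [(7, 2), (11, 2), (5, 7), (3, 5)])]

set_option maxRecDepth 100000 in
/-- groups of the order of `HS` -/
theorem all_hs (T : OrderTable.{0})
    (hS : ∀ (S : Type) [Group S] [Finite S], IsSimpleGroup S → IsKnownSimple' S) :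
    AllSimple.{u} 44352000 :=
  allSimple T hS (l := l_hs) (by decide +kernel) (by decide) (L := ords_hs) (by decide +kernel)
    (tr0 := [(5, 2), (11, 2), (3, 5), (7, 3)]) (by decide +kernel) (certs := certs_hs) (by decide +kernel)

def l_mcl : List (ℕ × ℕ) := [(2, 7), (3, 6), (5, 3), (7, 1), (11, 1)]

def ords_mcl : List ℕ := [60, 168, 360, 504, 660, 2520, 6048, 7920, 20160, 25920, 95040, 126000, 181440, 443520, 604800, 1814400, 3265920, 19958400, 898128000]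

def certs_mcl : List (ℕ × ℕ × ℕ × List (ℕ × ℕ)) := [
  (60, 1, 0, [(7, 2), (5, 7), (11, 5), (3, 7)]),
  (60, 2, 0, [(3, 2), (5, 2), (7, 5), (11, 5)]),
  (60, 3, 0, [(3, 2), (5, 2), (7, 5), (11, 5)]),
  (168, 1, 0, [(11, 2), (7, 11), (5, 7), (3, 7)]),
  (360, 1, 0, [(11, 2), (5, 11), (7, 5), (3, 7)]),
  (360, 2, 0, [(3, 2), (5, 2), (11, 2), (7, 5)]),
  (504, 1, 0, [(11, 2), (7, 11), (5, 7), (3, 7)]),
  (660, 1, 0, [(11, 2), (7, 11), (5, 11), (3, 7)]),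
  (2520, 1, 0, [(7, 2), (11, 7), (5, 7), (3, 7)]),
  (6048, 1, 0, [(7, 2), (11, 7), (3, 7), (5, 7)]),
  (7920, 1, 0, [(11, 2), (7, 11), (5, 11), (3, 11)]),
  (20160, 1, 0, [(11, 2), (7, 11), (5, 7), (3, 7)]),
  (25920, 1, 0, [(11, 2), (5, 2), (3, 11), (7, 3)]),
  (95040, 1, 0, [(5, 2), (11, 5), (7, 11), (3, 11)]),
  (126000, 1, 0, [(5, 2), (11, 5), (7, 11), (3, 5)]),
  (181440, 1, 0, [(11, 2), (7, 11), (3, 7), (5, 7)]),
  (443520, 1, 0, [(5, 2), (7, 5), (11, 5), (3, 2)]),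
  (604800, 1, 0, [(5, 2), (11, 2), (7, 5), (3, 2)]),
  (1814400, 1, 0, [(5, 2), (11, 2), (7, 5), (3, 2)]),
  (3265920, 1, 0, [(11, 2), (3, 11), (7, 11), (5, 2)]),
  (19958400, 1, 0, [(5, 2), (7, 5), (3, 2), (11, 3)])]

set_option maxRecDepth 100000 in
/-- groups of the order of `McL` -/
theorem all_mcl (T : OrderTable.{0})
    (hS : ∀ (S : Type) [Group S] [Finite S], IsSimpleGroup S → IsKnownSimple' S) :
    AllSimple.{u} 898128000 :=
  allSimple T hS (l := l_mcl) (by decide +kernel) (by decide) (L := ords_mcl) (by decide +kernel)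
    (tr0 := [(3, 2), (5, 2), (11, 2), (7, 5)]) (by decide +kernel) (certs := certs_mcl) (by decide +kernel)

def l_he : List (ℕ × ℕ) := [(2, 10), (3, 3), (5, 2), (7, 3), (17, 1)]

def ords_he : List ℕ := [60, 168, 360, 504, 2448, 2520, 4080, 6048, 20160, 58800, 604800, 979200, 4030387200]

def certs_he : List (ℕ × ℕ × ℕ × List (ℕ × ℕ)) := [
  (60, 1, 0, [(5, 2), (17, 5), (3, 5), (7, 5)]),
  (60, 2, 0, [(3, 2), (5, 2), (17, 5), (7, 5)]),
  (168, 1, 0, [(17, 2), (3, 17), (7, 17), (5, 3)]),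
  (168, 2, 0, [(3, 2), (7, 2), (17, 3), (5, 3)]),
  (168, 3, 0, [(3, 2), (7, 2), (17, 3), (5, 3)]),
  (360, 1, 0, [(3, 2), (5, 3), (17, 3), (7, 3)]),
  (504, 1, 0, [(3, 2), (17, 3), (5, 3), (7, 3)]),
  (2448, 1, 0, [(17, 2), (3, 17), (5, 17), (7, 17)]),
  (2520, 1, 0, [(3, 2), (5, 3), (17, 3), (7, 3)]),
  (4080, 1, 0, [(17, 2), (5, 17), (3, 17), (7, 17)]),
  (6048, 1, 0, [(3, 2), (17, 3), (5, 3), (7, 3)]),
  (20160, 1, 0, [(3, 2), (5, 3), (17, 3), (7, 3)]),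
  (58800, 1, 0, [(5, 2), (7, 5), (17, 5), (3, 5)]),
  (604800, 1, 0, [(3, 2), (17, 3), (5, 17), (7, 3)]),
  (979200, 1, 0, [(7, 2), (5, 7), (17, 7), (3, 17)])]

set_option maxRecDepth 100000 in
/-- groups of the order of `He` -/
theorem all_he (T : OrderTable.{0})
    (hS : ∀ (S : Type) [Group S] [Finite S], IsSimpleGroup S → IsKnownSimple' S) :
    AllSimple.{u} 4030387200 :=
  allSimple T hS (l := l_he) (by decide +kernel) (by decide) (L := ords_he) (by decide +kernel)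
    (tr0 := [(3, 2), (5, 2), (7, 2), (17, 3)]) (by decide +kernel) (certs := certs_he) (by decide +kernel)

def l_ru : List (ℕ × ℕ) := [(2, 14), (3, 3), (5, 3), (7, 1), (13, 1), (29, 1)]

def ords_ru : List ℕ := [60, 168, 360, 504, 1092, 2520, 5616, 6048, 7800, 9828, 12180, 20160, 29120, 62400, 126000, 262080, 604800, 17971200, 251596800, 145926144000]

def certs_ru : List (ℕ × ℕ × ℕ × List (ℕ × ℕ)) := [
  (60, 1, 0, [(7, 2), (3, 7), (13, 3), (29, 3), (5, 7)]),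
  (60, 2, 0, [(3, 2), (5, 2), (7, 3), (13, 3), (29, 3)]),
  (60, 3, 0, [(3, 2), (5, 2), (7, 3), (29, 3), (13, 5)]),
  (168, 1, 0, [(7, 2), (13, 7), (29, 7), (3, 7), (5, 7)]),
  (360, 1, 0, [(3, 2), (7, 3), (13, 3), (29, 3), (5, 3)]),
  (504, 1, 0, [(7, 2), (13, 7), (29, 7), (3, 13), (5, 7)]),
  (1092, 1, 0, [(29, 2), (7, 29), (13, 29), (3, 7), (5, 7)]),
  (2520, 1, 0, [(7, 2), (13, 7), (29, 7), (5, 7), (3, 13)]),
  (5616, 1, 0, [(3, 2), (7, 3), (29, 3), (13, 7), (5, 3)]),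
  (6048, 1, 0, [(3, 2), (29, 3), (7, 29), (13, 7), (5, 3)]),
  (7800, 1, 0, [(13, 2), (5, 13), (7, 13), (29, 13), (3, 13)]),
  (9828, 1, 0, [(3, 2), (29, 3), (7, 29), (13, 29), (5, 3)]),
  (12180, 1, 0, [(7, 2), (13, 7), (29, 13), (3, 7), (5, 7)]),
  (20160, 1, 0, [(7, 2), (13, 7), (29, 7), (5, 7), (3, 13)]),
  (29120, 1, 0, [(7, 2), (29, 7), (13, 29), (5, 7), (3, 7)]),
  (62400, 1, 0, [(13, 2), (5, 13), (7, 13), (29, 13), (3, 13)]),
  (126000, 1, 0, [(5, 2), (3, 5), (13, 5), (29, 5), (7, 13)]),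
  (262080, 1, 0, [(7, 2), (29, 7), (13, 29), (5, 7), (3, 29)]),
  (604800, 1, 0, [(3, 2), (5, 3), (29, 3), (7, 5), (13, 7)]),
  (17971200, 1, 0, [(3, 2), (5, 3), (7, 3), (29, 3), (13, 5)]),
  (251596800, 1, 0, [(3, 2), (5, 3), (29, 3), (7, 5), (13, 5)])]

set_option maxRecDepth 100000 in
/-- groups of the order of `Ru` -/
theorem all_ru (T : OrderTable.{0})
    (hS : ∀ (S : Type) [Group S] [Finite S], IsSimpleGroup S → IsKnownSimple' S) :
    AllSimple.{u} 145926144000 :=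
  allSimple T hS (l := l_ru) (by decide +kernel) (by decide) (L := ords_ru) (by decide +kernel)
    (tr0 := [(3, 2), (5, 2), (29, 2), (7, 3), (13, 5)]) (by decide +kernel) (certs := certs_ru) (by decide +kernel)

def l_suz : List (ℕ × ℕ) := [(2, 13), (3, 7), (5, 2), (7, 1), (11, 1), (13, 1)]

def ords_suz : List ℕ := [60, 168, 360, 504, 660, 1092, 2520, 5616, 6048, 7800, 7920, 9828, 20160, 25920, 29120, 62400, 95040, 181440, 262080, 443520, 604800, 1451520, 1814400, 3265920, 4245696, 6065280, 13685760, 17971200, 19958400, 42456960, 174182400, 239500800, 251596800, 3113510400, 448345497600]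

def certs_suz : List (ℕ × ℕ × ℕ × List (ℕ × ℕ)) := [
  (60, 1, 0, [(5, 2), (7, 5), (11, 5), (13, 5), (3, 5)]),
  (60, 2, 0, [(3, 2), (5, 2), (7, 5), (11, 5), (13, 5)]),
  (168, 1, 0, [(11, 2), (7, 11), (13, 7), (5, 7), (3, 11)]),
  (360, 1, 0, [(5, 2), (7, 5), (11, 5), (13, 5), (3, 5)]),
  (360, 2, 0, [(3, 2), (5, 2), (7, 5), (11, 5), (13, 5)]),
  (504, 1, 0, [(11, 2), (7, 11), (13, 7), (5, 7), (3, 7)]),
  (660, 1, 0, [(5, 2), (7, 5), (11, 7), (13, 11), (3, 11)]),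
  (1092, 1, 0, [(7, 2), (11, 7), (13, 11), (5, 7), (3, 11)]),
  (2520, 1, 0, [(5, 2), (7, 5), (11, 7), (13, 7), (3, 7)]),
  (5616, 1, 0, [(13, 2), (7, 13), (11, 13), (5, 13), (3, 7)]),
  (6048, 1, 0, [(7, 2), (11, 7), (13, 7), (5, 7), (3, 7)]),
  (7800, 1, 0, [(5, 2), (7, 5), (11, 5), (13, 7), (3, 5)]),
  (7920, 1, 0, [(11, 2), (7, 11), (13, 11), (5, 7), (3, 5)]),
  (9828, 1, 0, [(7, 2), (11, 7), (13, 11), (5, 7), (3, 7)]),
  (20160, 1, 0, [(5, 2), (7, 5), (11, 7), (13, 7), (3, 7)]),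
  (25920, 1, 0, [(5, 2), (7, 5), (11, 5), (13, 5), (3, 5)]),
  (29120, 1, 0, [(7, 2), (5, 7), (13, 5), (11, 7), (3, 5)]),
  (62400, 1, 0, [(5, 2), (7, 5), (11, 5), (13, 7), (3, 5)]),
  (95040, 1, 0, [(11, 2), (7, 11), (13, 11), (5, 7), (3, 11)]),
  (181440, 1, 0, [(5, 2), (7, 5), (11, 7), (13, 7), (3, 7)]),
  (262080, 1, 0, [(7, 2), (5, 7), (13, 5), (11, 7), (3, 7)]),
  (443520, 1, 0, [(7, 2), (5, 7), (13, 7), (11, 13), (3, 7)]),
  (604800, 1, 0, [(5, 2), (11, 5), (13, 5), (7, 11), (3, 5)]),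
  (1451520, 1, 0, [(7, 2), (5, 7), (11, 7), (13, 7), (3, 7)]),
  (1814400, 1, 0, [(5, 2), (11, 5), (13, 5), (7, 11), (3, 5)]),
  (3265920, 1, 0, [(3, 2), (5, 3), (7, 5), (11, 7), (13, 7)]),
  (4245696, 1, 0, [(7, 2), (11, 7), (13, 11), (5, 7), (3, 11)]),
  (6065280, 1, 0, [(13, 2), (5, 13), (7, 13), (11, 13), (3, 5)]),
  (13685760, 1, 0, [(11, 2), (7, 11), (13, 11), (3, 11), (5, 7)]),
  (17971200, 1, 0, [(7, 2), (5, 7), (11, 5), (13, 7), (3, 5)]),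
  (19958400, 1, 0, [(5, 2), (13, 5), (7, 13), (11, 13), (3, 5)]),
  (42456960, 1, 0, [(7, 2), (5, 7), (13, 5), (11, 7), (3, 5)]),
  (174182400, 1, 0, [(11, 2), (5, 11), (13, 5), (7, 11), (3, 5)]),
  (239500800, 1, 0, [(5, 2), (13, 5), (7, 13), (11, 13), (3, 5)]),
  (251596800, 1, 0, [(11, 2), (5, 11), (7, 11), (13, 11), (3, 5)]),
  (3113510400, 1, 0, [(5, 2), (3, 5), (7, 3), (11, 3), (13, 3)])]

set_option maxRecDepth 100000 in
/-- groups of the order of `Suz` -/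
theorem all_suz (T : OrderTable.{0})
    (hS : ∀ (S : Type) [Group S] [Finite S], IsSimpleGroup S → IsKnownSimple' S) :
    AllSimple.{u} 448345497600 :=
  allSimple T hS (l := l_suz) (by decide +kernel) (by decide) (L := ords_suz) (by decide +kernel)
    (tr0 := [(3, 2), (5, 2), (7, 5), (11, 5), (13, 5)]) (by decide +kernel) (certs := certs_suz) (by decide +kernel)

def l_opn : List (ℕ × ℕ) := [(2, 9), (3, 4), (5, 1), (7, 3), (11, 1), (19, 1), (31, 1)]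

def ords_opn : List ℕ := [60, 168, 360, 504, 660, 2520, 3420, 6048, 7920, 14880, 20160, 25920, 32736, 95040, 175560, 181440, 443520, 1451520, 1876896, 5515776, 460815505920]

def certs_opn : List (ℕ × ℕ × ℕ × List (ℕ × ℕ)) := [
  (60, 1, 0, [(5, 2), (11, 5), (19, 5), (3, 5), (7, 5), (31, 3)]),
  (168, 1, 0, [(5, 2), (7, 5), (11, 7), (19, 7), (31, 7), (3, 5)]),
  (168, 2, 0, [(3, 2), (7, 2), (5, 7), (11, 7), (19, 7), (31, 7)]),
  (168, 3, 0, [(3, 2), (7, 2), (5, 2), (11, 2), (19, 2), (31, 2)]),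
  (360, 1, 0, [(11, 2), (5, 11), (19, 5), (3, 5), (7, 5), (31, 3)]),
  (504, 1, 0, [(5, 2), (3, 5), (11, 3), (19, 3), (31, 3), (7, 5)]),
  (504, 2, 0, [(3, 2), (7, 2), (11, 3), (19, 3), (31, 3), (5, 7)]),
  (660, 1, 0, [(5, 2), (19, 5), (31, 5), (11, 19), (3, 5), (7, 5)]),
  (2520, 1, 0, [(11, 2), (5, 11), (19, 5), (31, 5), (3, 5), (7, 5)]),
  (3420, 1, 0, [(5, 2), (11, 5), (31, 5), (19, 11), (3, 5), (7, 5)]),
  (6048, 1, 0, [(3, 2), (5, 3), (11, 3), (19, 3), (31, 3), (7, 3)]),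
  (7920, 1, 0, [(5, 2), (19, 5), (31, 5), (11, 19), (3, 5), (7, 5)]),
  (14880, 1, 0, [(5, 2), (11, 5), (19, 5), (31, 11), (3, 5), (7, 5)]),
  (20160, 1, 0, [(5, 2), (11, 5), (19, 5), (31, 5), (3, 5), (7, 5)]),
  (25920, 1, 0, [(5, 2), (11, 5), (3, 11), (19, 3), (31, 3), (7, 3)]),
  (32736, 1, 0, [(11, 2), (19, 11), (31, 19), (3, 11), (7, 11), (5, 3)]),
  (95040, 1, 0, [(5, 2), (3, 5), (11, 3), (19, 5), (31, 5), (7, 5)]),
  (175560, 1, 0, [(5, 2), (31, 5), (11, 31), (19, 31), (7, 5), (3, 5)]),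
  (181440, 1, 0, [(5, 2), (11, 5), (3, 11), (19, 3), (31, 3), (7, 3)]),
  (443520, 1, 0, [(11, 2), (19, 11), (5, 19), (31, 5), (3, 5), (7, 5)]),
  (1451520, 1, 0, [(11, 2), (19, 2), (31, 2), (3, 11), (5, 11), (7, 2)]),
  (1876896, 1, 0, [(7, 2), (5, 7), (19, 5), (11, 7), (31, 7), (3, 5)]),
  (5515776, 1, 0, [(5, 2), (11, 2), (31, 2), (3, 11), (19, 5), (7, 2)])]

set_option maxRecDepth 100000 in
/-- groups of the order of `O'N` -/
theorem all_opn (T : OrderTable.{0})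
    (hS : ∀ (S : Type) [Group S] [Finite S], IsSimpleGroup S → IsKnownSimple' S) :
    AllSimple.{u} 460815505920 :=
  allSimple T hS (l := l_opn) (by decide +kernel) (by decide) (L := ords_opn) (by decide +kernel)
    (tr0 := [(3, 2), (7, 2), (11, 2), (19, 2), (31, 3), (5, 7)]) (by decide +kernel) (certs := certs_opn) (by decide +kernel)

def l_hn : List (ℕ × ℕ) := [(2, 14), (3, 6), (5, 6), (7, 1), (11, 1), (19, 1)]

def ords_hn : List ℕ := [60, 168, 360, 504, 660, 2520, 3420, 6048, 7920, 20160, 25920, 95040, 126000, 175560, 181440, 443520, 604800, 1451520, 1814400, 3265920, 5515776, 13685760, 19958400, 44352000, 174182400, 239500800, 898128000, 273030912000000]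

def certs_hn : List (ℕ × ℕ × ℕ × List (ℕ × ℕ)) := [
  (60, 1, 0, [(7, 2), (3, 7), (11, 3), (19, 3), (5, 7)]),
  (60, 2, 0, [(3, 2), (5, 2), (7, 3), (11, 3), (19, 3)]),
  (60, 3, 0, [(3, 2), (5, 2), (7, 3), (11, 3), (19, 3)]),
  (60, 4, 0, [(3, 2), (5, 2), (7, 3), (11, 3), (19, 3)]),
  (60, 5, 11, [(3, 2), (5, 2), (7, 3), (19, 3)]),
  (60, 6, 7, [(3, 2), (5, 2), (11, 3), (19, 3)]),
  (168, 1, 0, [(7, 2), (11, 7), (19, 7), (3, 7), (5, 3)]),
  (360, 1, 0, [(11, 2), (3, 11), (7, 3), (19, 3), (5, 7)]),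
  (360, 2, 0, [(3, 2), (5, 2), (7, 3), (11, 3), (19, 3)]),
  (360, 3, 0, [(3, 2), (5, 2), (11, 3), (19, 3), (7, 5)]),
  (504, 1, 0, [(7, 2), (11, 7), (19, 7), (3, 7), (5, 3)]),
  (660, 1, 0, [(11, 2), (7, 11), (19, 11), (3, 7), (5, 7)]),
  (2520, 1, 0, [(7, 2), (11, 7), (19, 7), (3, 7), (5, 7)]),
  (3420, 1, 0, [(19, 2), (7, 19), (11, 19), (3, 19), (5, 19)]),
  (6048, 1, 0, [(11, 2), (7, 11), (19, 7), (3, 7), (5, 3)]),
  (7920, 1, 0, [(7, 2), (11, 7), (19, 11), (3, 11), (5, 7)]),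
  (20160, 1, 0, [(7, 2), (11, 7), (19, 7), (3, 7), (5, 7)]),
  (25920, 1, 0, [(11, 2), (3, 11), (7, 3), (19, 3), (5, 7)]),
  (95040, 1, 0, [(11, 2), (7, 11), (19, 11), (3, 11), (5, 7)]),
  (126000, 1, 0, [(11, 2), (7, 11), (19, 7), (5, 7), (3, 7)]),
  (175560, 1, 0, [(7, 2), (3, 7), (11, 3), (19, 3), (5, 7)]),
  (181440, 1, 0, [(7, 2), (11, 7), (19, 7), (3, 7), (5, 7)]),
  (443520, 1, 0, [(7, 2), (19, 7), (11, 19), (3, 7), (5, 7)]),
  (604800, 1, 0, [(11, 2), (7, 11), (19, 7), (3, 7), (5, 7)]),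
  (1451520, 1, 0, [(7, 2), (11, 7), (19, 7), (3, 7), (5, 7)]),
  (1814400, 1, 0, [(11, 2), (7, 11), (19, 7), (3, 7), (5, 7)]),
  (3265920, 1, 0, [(3, 2), (11, 3), (19, 3), (7, 11), (5, 3)]),
  (5515776, 1, 0, [(7, 2), (11, 7), (19, 11), (3, 7), (5, 7)]),
  (13685760, 1, 0, [(11, 2), (3, 11), (7, 11), (19, 11), (5, 3)]),
  (19958400, 1, 0, [(7, 2), (19, 7), (11, 19), (3, 7), (5, 7)]),
  (44352000, 1, 0, [(7, 2), (19, 7), (11, 19), (5, 7), (3, 7)]),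
  (174182400, 1, 0, [(7, 2), (11, 7), (19, 7), (3, 19), (5, 7)]),
  (239500800, 1, 0, [(7, 2), (19, 7), (11, 19), (3, 11), (5, 7)]),
  (898128000, 1, 0, [(3, 2), (19, 3), (7, 19), (11, 19), (5, 3)])]

set_option maxRecDepth 100000 in
/-- groups of the order of `HN` -/
theorem all_hn (T : OrderTable.{0})
    (hS : ∀ (S : Type) [Group S] [Finite S], IsSimpleGroup S → IsKnownSimple' S) :
    AllSimple.{u} 273030912000000 :=
  allSimple T hS (l := l_hn) (by decide +kernel) (by decide) (L := ords_hn) (by decide +kernel)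
    (tr0 := [(3, 2), (5, 2), (19, 2), (7, 19), (11, 7)]) (by decide +kernel) (certs := certs_hn) (by decide +kernel)

def l_ly : List (ℕ × ℕ) := [(2, 8), (3, 7), (5, 6), (7, 1), (11, 1), (31, 1), (37, 1), (67, 1)]

def ords_ly : List ℕ := [60, 168, 360, 504, 660, 2520, 6048, 7920, 14880, 20160, 25920, 32736, 95040, 126000, 181440, 372000, 443520, 604800, 976500, 1814400, 3265920, 19958400, 898128000, 5859000000, 51765179004000000]

def certs_ly : List (ℕ × ℕ × ℕ × List (ℕ × ℕ)) := [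
  (60, 1, 0, [(7, 2), (5, 7), (11, 5), (37, 5), (67, 5), (31, 2), (3, 7)]),
  (60, 2, 0, [(3, 2), (5, 2), (7, 2), (11, 2), (31, 2), (37, 2), (67, 2)]),
  (60, 3, 0, [(3, 2), (5, 2), (11, 2), (31, 2), (37, 2), (67, 2), (7, 5)]),
  (60, 4, 0, [(3, 2), (5, 2), (7, 2), (11, 2), (31, 2), (37, 2), (67, 2)]),
  (168, 1, 0, [(7, 2), (11, 7), (31, 7), (37, 7), (67, 7), (3, 11), (5, 2)]),
  (360, 1, 0, [(11, 2), (31, 2), (37, 2), (67, 2), (3, 11), (7, 3), (5, 7)]),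
  (360, 2, 0, [(3, 2), (5, 2), (11, 2), (31, 2), (37, 2), (67, 2), (7, 3)]),
  (504, 1, 0, [(7, 2), (11, 7), (31, 7), (37, 7), (67, 7), (3, 7), (5, 2)]),
  (660, 1, 0, [(11, 2), (7, 11), (31, 11), (37, 11), (67, 11), (3, 11), (5, 7)]),
  (2520, 1, 0, [(7, 2), (11, 7), (31, 7), (37, 7), (67, 7), (3, 7), (5, 7)]),
  (6048, 1, 0, [(11, 2), (7, 11), (31, 7), (37, 7), (67, 7), (3, 7), (5, 2)]),
  (7920, 1, 0, [(11, 2), (7, 11), (31, 11), (37, 11), (67, 11), (3, 7), (5, 7)]),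
  (14880, 1, 0, [(31, 2), (7, 31), (11, 31), (37, 31), (67, 31), (5, 31), (3, 31)]),
  (20160, 1, 0, [(7, 2), (11, 7), (31, 7), (37, 7), (67, 7), (3, 7), (5, 7)]),
  (25920, 1, 0, [(11, 2), (31, 2), (37, 2), (67, 2), (3, 11), (7, 3), (5, 7)]),
  (32736, 1, 0, [(11, 2), (7, 11), (31, 7), (37, 11), (67, 11), (3, 11), (5, 2)]),
  (95040, 1, 0, [(11, 2), (7, 11), (31, 11), (37, 11), (67, 11), (3, 11), (5, 7)]),
  (126000, 1, 0, [(7, 2), (11, 7), (31, 7), (37, 7), (67, 7), (5, 7), (3, 7)]),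
  (181440, 1, 0, [(7, 2), (11, 7), (31, 7), (37, 7), (67, 7), (3, 7), (5, 7)]),
  (372000, 1, 0, [(31, 2), (7, 31), (11, 31), (37, 31), (67, 31), (3, 31), (5, 7)]),
  (443520, 1, 0, [(31, 2), (7, 31), (37, 7), (67, 7), (11, 31), (3, 7), (5, 7)]),
  (604800, 1, 0, [(11, 2), (7, 11), (31, 7), (37, 7), (67, 7), (3, 7), (5, 7)]),
  (976500, 1, 0, [(11, 2), (7, 11), (37, 7), (67, 7), (31, 11), (5, 7), (3, 7)]),
  (1814400, 1, 0, [(11, 2), (7, 11), (31, 7), (37, 7), (67, 7), (3, 7), (5, 7)]),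
  (3265920, 1, 0, [(3, 2), (11, 2), (7, 11), (31, 7), (37, 7), (67, 7), (5, 7)]),
  (19958400, 1, 0, [(31, 2), (7, 31), (37, 7), (67, 7), (11, 31), (3, 7), (5, 7)]),
  (898128000, 1, 0, [(3, 2), (11, 3), (31, 11), (7, 31), (37, 7), (67, 7), (5, 7)]),
  (5859000000, 1, 0, [(7, 2), (11, 7), (5, 11), (37, 5), (67, 5), (31, 11), (3, 5)])]

set_option maxRecDepth 100000 in
/-- groups of the order of `Ly` -/
theorem all_ly (T : OrderTable.{0})
    (hS : ∀ (S : Type) [Group S] [Finite S], IsSimpleGroup S → IsKnownSimple' S) :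
    AllSimple.{u} 51765179004000000 :=
  allSimple T hS (l := l_ly) (by decide +kernel) (by decide) (L := ords_ly) (by decide +kernel)
    (tr0 := [(3, 2), (5, 2), (11, 2), (37, 2), (67, 2), (31, 3), (7, 11)]) (by decide +kernel) (certs := certs_ly) (by decide +kernel)

def l_th : List (ℕ × ℕ) := [(2, 15), (3, 10), (5, 3), (7, 2), (13, 1), (19, 1), (31, 1)]

def ords_th : List ℕ := [60, 168, 360, 504, 1092, 2520, 3420, 5616, 6048, 7800, 9828, 14880, 20160, 25920, 29120, 58800, 62400, 126000, 181440, 262080, 372000, 604800, 976500, 1451520, 1814400, 3265920, 4245696, 5515776, 6065280, 9999360, 17971200, 42456960, 174182400, 211341312, 251596800, 1056706560, 4585351680, 20158709760, 90745943887872000]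

def certs_th : List (ℕ × ℕ × ℕ × List (ℕ × ℕ)) := [
  (60, 1, 0, [(13, 2), (5, 13), (19, 5), (31, 5), (7, 5), (3, 13)]),
  (60, 2, 0, [(3, 2), (5, 2), (13, 5), (19, 5), (31, 5), (7, 5)]),
  (60, 3, 0, [(3, 2), (5, 2), (13, 5), (19, 5), (7, 5), (31, 3)]),
  (168, 1, 0, [(7, 2), (13, 7), (19, 7), (31, 7), (5, 7), (3, 7)]),
  (168, 2, 0, [(3, 2), (7, 2), (13, 7), (19, 7), (31, 7), (5, 7)]),
  (360, 1, 0, [(13, 2), (5, 13), (19, 5), (31, 5), (7, 5), (3, 13)]),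
  (360, 2, 0, [(3, 2), (5, 2), (13, 5), (19, 5), (31, 5), (7, 5)]),
  (360, 3, 0, [(3, 2), (5, 2), (13, 5), (19, 5), (7, 5), (31, 3)]),
  (504, 1, 0, [(7, 2), (13, 7), (19, 7), (31, 7), (5, 7), (3, 7)]),
  (504, 2, 0, [(3, 2), (7, 2), (13, 7), (19, 7), (31, 7), (5, 7)]),
  (1092, 1, 0, [(7, 2), (13, 7), (19, 13), (31, 13), (5, 13), (3, 7)]),
  (2520, 1, 0, [(7, 2), (13, 7), (19, 7), (31, 7), (5, 7), (3, 7)]),
  (2520, 2, 0, [(3, 2), (5, 2), (7, 2), (13, 7), (19, 7), (31, 7)]),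
  (3420, 1, 0, [(19, 2), (13, 19), (31, 19), (5, 19), (7, 19), (3, 19)]),
  (5616, 1, 0, [(13, 2), (19, 13), (31, 13), (7, 13), (5, 13), (3, 19)]),
  (6048, 1, 0, [(7, 2), (13, 7), (19, 7), (31, 7), (5, 7), (3, 7)]),
  (6048, 2, 0, [(3, 2), (7, 2), (13, 7), (19, 7), (31, 7), (5, 7)]),
  (7800, 1, 0, [(5, 2), (13, 5), (19, 13), (31, 13), (7, 13), (3, 5)]),
  (9828, 1, 0, [(7, 2), (13, 7), (19, 13), (31, 13), (5, 13), (3, 7)]),
  (14880, 1, 0, [(13, 2), (31, 13), (19, 31), (5, 31), (7, 31), (3, 31)]),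
  (20160, 1, 0, [(7, 2), (13, 7), (19, 7), (31, 7), (5, 7), (3, 7)]),
  (20160, 2, 0, [(3, 2), (5, 2), (7, 2), (13, 7), (19, 7), (31, 7)]),
  (25920, 1, 0, [(13, 2), (5, 13), (19, 5), (31, 5), (7, 5), (3, 13)]),
  (25920, 2, 0, [(3, 2), (5, 2), (13, 5), (19, 5), (31, 5), (7, 5)]),
  (29120, 1, 0, [(13, 2), (7, 13), (19, 13), (31, 13), (5, 13), (3, 7)]),
  (58800, 1, 0, [(7, 2), (5, 7), (13, 7), (19, 7), (31, 7), (3, 7)]),
  (62400, 1, 0, [(13, 2), (5, 13), (19, 13), (31, 13), (7, 13), (3, 5)]),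
  (126000, 1, 0, [(5, 2), (7, 5), (13, 5), (19, 5), (31, 7), (3, 5)]),
  (181440, 1, 0, [(7, 2), (13, 7), (19, 7), (31, 7), (5, 7), (3, 7)]),
  (181440, 2, 0, [(3, 2), (5, 2), (7, 2), (13, 7), (19, 7), (31, 7)]),
  (262080, 1, 0, [(13, 2), (7, 13), (19, 13), (31, 13), (5, 13), (3, 13)]),
  (372000, 1, 0, [(5, 2), (13, 5), (19, 5), (31, 13), (7, 5), (3, 5)]),
  (604800, 1, 0, [(5, 2), (7, 5), (13, 5), (19, 5), (31, 5), (3, 5)]),
  (976500, 1, 0, [(5, 2), (7, 5), (13, 5), (19, 5), (31, 7), (3, 5)]),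
  (1451520, 1, 0, [(7, 2), (13, 7), (19, 7), (31, 7), (5, 7), (3, 7)]),
  (1814400, 1, 0, [(5, 2), (7, 5), (13, 5), (19, 5), (31, 5), (3, 5)]),
  (3265920, 1, 0, [(7, 2), (13, 7), (19, 7), (31, 7), (5, 7), (3, 7)]),
  (4245696, 1, 0, [(13, 2), (7, 13), (19, 13), (31, 13), (5, 13), (3, 13)]),
  (5515776, 1, 0, [(19, 2), (7, 19), (13, 19), (31, 19), (5, 19), (3, 19)]),
  (6065280, 1, 0, [(13, 2), (19, 13), (31, 13), (5, 13), (7, 13), (3, 13)]),
  (9999360, 1, 0, [(7, 2), (31, 7), (13, 31), (19, 31), (5, 31), (3, 31)]),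
  (17971200, 1, 0, [(13, 2), (5, 13), (19, 13), (31, 13), (7, 13), (3, 5)]),
  (42456960, 1, 0, [(13, 2), (7, 13), (19, 13), (31, 13), (5, 13), (3, 13)]),
  (174182400, 1, 0, [(7, 2), (5, 7), (13, 5), (19, 5), (31, 5), (3, 5)]),
  (211341312, 1, 0, [(13, 2), (19, 13), (7, 19), (31, 7), (5, 7), (3, 7)]),
  (251596800, 1, 0, [(13, 2), (5, 13), (7, 13), (19, 13), (31, 13), (3, 5)]),
  (1056706560, 1, 0, [(13, 2), (19, 13), (7, 19), (31, 7), (5, 7), (3, 7)]),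
  (4585351680, 1, 0, [(13, 2), (7, 13), (19, 13), (31, 13), (5, 13), (3, 7)]),
  (20158709760, 1, 0, [(13, 2), (19, 2), (7, 13), (31, 13), (5, 2), (3, 2)])]

set_option maxRecDepth 100000 in
/-- groups of the order of `Th` -/
theorem all_th (T : OrderTable.{0})
    (hS : ∀ (S : Type) [Group S] [Finite S], IsSimpleGroup S → IsKnownSimple' S) :
    AllSimple.{u} 90745943887872000 :=
  allSimple T hS (l := l_th) (by decide +kernel) (by decide) (L := ords_th) (by decide +kernel)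
    (tr0 := [(3, 2), (5, 2), (7, 2), (19, 2), (31, 3), (13, 5)]) (by decide +kernel) (certs := certs_th) (by decide +kernel)

end Cfsg.Agent.H154.PG.DataA
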