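import Cfsg.Agent.H154.PGCands

/-!
# Prime graph test: the order of the Baby Monster (helper154)

Machine generated certificates: for every order `o` of a nonabelian simple group and every power `o ^ k`
dividing `n`, a tree of forced adjacencies between the prime divisors of `n`.
-/

set_option autoImplicit false

namespace Cfsg.Agent.H154.PG.DataB

open Cfsg Cfsg.Agent.OrdDiv Cfsg.Agent.H154.PG

universe u

def l_b : List (ℕ × ℕ) := [(2, 41), (3, 13), (5, 6), (7, 2), (11, 1), (13, 1), (17, 1), (19, 1), (23, 1), (31, 1), (47, 1)]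

def ords_b : List ℕ := [60, 168, 360, 504, 660, 1092, 2448, 2520, 3420, 4080, 5616, 6048, 6072, 7800, 7920, 9828, 14880, 20160, 25920, 29120, 32736, 51888, 58800, 62400, 95040, 126000, 175560, 181440, 262080, 372000, 443520, 604800, 976500, 979200, 1451520, 1814400, 3265920, 4245696, 4680000, 5515776, 6065280, 9999360, 10200960, 13685760, 17971200, 19958400, 42456960, 44352000, 50232960, 174182400, 197406720, 211341312, 239500800, 244823040, 251596800, 898128000, 987033600, 1018368000, 1056706560, 1425715200, 3113510400, 4585351680, 5859000000, 7254000000, 9196830720, 14742000000, 20158709760, 43589145600, 47377612800, 50778000000, 448345497600, 495766656000, 653837184000, 4106059776000, 4952179814400, 10461394944000, 23499295948800, 25015379558400, 34693789777920, 42305421312000, 64561751654400, 177843714048000, 258492255436800, 273030912000000, 3201186852864000, 3311126603366400, 24815256521932800, 60822550204416000,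 90745943887872000, 1216451004088320000, 4089470473293004800, 4157776806543360000, 50027557148216524800, 51615733565620224000, 361310134959341568000, 76532479683774853939200, 208114637736580743168000, 4154781481226426191177580544000000]

def certs_b : List (ℕ × ℕ × ℕ × List (ℕ × ℕ)) := [
  (60, 1, 0, [(11, 2), (5, 11), (13, 5), (17, 5), (19, 5), (23, 5), (47, 5), (7, 5), (3, 11), (31, 3)]),
  (60, 2, 0, [(3, 2), (5, 2), (11, 5), (13, 5), (17, 5), (19, 5), (23, 5), (31, 5), (47, 5), (7, 5)]),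
  (60, 3, 0, [(3, 2), (5, 2), (11, 5), (13, 5), (17, 5), (19, 5), (23, 5), (47, 5), (7, 5), (31, 3)]),
  (60, 4, 0, [(3, 2), (5, 2), (11, 5), (17, 5), (19, 5), (23, 5), (31, 5), (47, 5), (7, 5), (13, 3)]),
  (60, 5, 11, [(3, 2), (5, 2), (13, 5), (17, 5), (19, 5), (23, 5), (31, 5), (47, 5), (7, 5)]),
  (60, 6, 0, [(3, 2), (5, 2), (11, 5), (13, 5), (17, 5), (19, 5), (23, 5), (47, 5), (7, 5), (31, 3)]),
  (168, 1, 0, [(7, 2), (11, 7), (13, 7), (17, 7), (19, 7), (23, 7), (31, 7), (47, 7), (3, 11), (5, 3)]),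
  (168, 2, 0, [(3, 2), (7, 2), (11, 7), (13, 7), (17, 7), (19, 7), (23, 7), (31, 7), (47, 7), (5, 7)]),
  (360, 1, 0, [(11, 2), (5, 11), (13, 5), (17, 5), (19, 5), (23, 5), (47, 5), (7, 5), (3, 11), (31, 3)]),
  (360, 2, 0, [(3, 2), (5, 2), (11, 5), (13, 5), (17, 5), (19, 5), (23, 5), (31, 5), (47, 5), (7, 5)]),
  (360, 3, 0, [(3, 2), (5, 2), (11, 5), (13, 5), (17, 5), (19, 5), (23, 5), (47, 5), (7, 5), (31, 3)]),
  (360, 4, 0, [(3, 2), (5, 2), (11, 5), (17, 5), (19, 5), (23, 5), (31, 5), (47, 5), (7, 5), (13, 3)]),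
  (360, 5, 0, [(3, 2), (5, 2), (13, 5), (17, 5), (19, 5), (23, 5), (31, 5), (47, 5), (7, 5), (11, 2)]),
  (360, 6, 0, [(3, 2), (5, 2), (11, 5), (13, 5), (17, 5), (19, 5), (23, 5), (47, 5), (7, 5), (31, 3)]),
  (504, 1, 0, [(7, 2), (11, 7), (13, 7), (17, 7), (19, 7), (23, 7), (31, 7), (47, 7), (3, 7), (5, 3)]),
  (504, 2, 0, [(3, 2), (7, 2), (11, 7), (13, 7), (17, 7), (19, 7), (23, 7), (31, 7), (47, 7), (5, 7)]),
  (660, 1, 0, [(11, 2), (13, 11), (17, 11), (19, 11), (23, 11), (31, 11), (47, 11), (7, 11), (5, 13), (3, 11)]),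
  (1092, 1, 0, [(13, 2), (7, 13), (11, 13), (17, 13), (19, 13), (23, 13), (31, 13), (47, 13), (5, 13), (3, 7)]),
  (2448, 1, 0, [(17, 2), (11, 17), (13, 17), (19, 17), (23, 17), (31, 17), (47, 17), (7, 17), (5, 17), (3, 17)]),
  (2520, 1, 0, [(7, 2), (11, 7), (13, 7), (17, 7), (19, 7), (23, 7), (31, 7), (47, 7), (5, 7), (3, 7)]),
  (2520, 2, 0, [(3, 2), (5, 2), (7, 2), (11, 7), (13, 7), (17, 7), (19, 7), (23, 7), (31, 7), (47, 7)]),
  (3420, 1, 0, [(19, 2), (11, 19), (13, 19), (17, 19), (23, 19), (31, 19), (47, 19), (7, 19), (5, 19), (3, 19)]),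
  (4080, 1, 0, [(17, 2), (11, 17), (13, 17), (19, 17), (23, 17), (31, 17), (47, 17), (7, 17), (5, 17), (3, 17)]),
  (5616, 1, 0, [(11, 2), (13, 11), (17, 13), (19, 13), (23, 13), (31, 13), (47, 13), (7, 13), (5, 13), (3, 11)]),
  (6048, 1, 0, [(7, 2), (11, 7), (13, 7), (17, 7), (19, 7), (23, 7), (31, 7), (47, 7), (3, 7), (5, 3)]),
  (6048, 2, 0, [(3, 2), (7, 2), (11, 7), (13, 7), (17, 7), (19, 7), (23, 7), (31, 7), (47, 7), (5, 7)]),
  (6072, 1, 0, [(11, 2), (13, 11), (17, 11), (19, 11), (31, 11), (47, 11), (23, 13), (7, 11), (5, 11), (3, 11)]),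
  (7800, 1, 0, [(11, 2), (13, 11), (17, 13), (19, 13), (23, 13), (31, 13), (47, 13), (7, 13), (5, 11), (3, 11)]),
  (7920, 1, 0, [(11, 2), (13, 11), (17, 11), (19, 11), (23, 11), (31, 11), (47, 11), (7, 11), (3, 11), (5, 13)]),
  (9828, 1, 0, [(13, 2), (7, 13), (11, 13), (17, 13), (19, 13), (23, 13), (31, 13), (47, 13), (5, 13), (3, 7)]),
  (14880, 1, 0, [(11, 2), (31, 11), (13, 31), (17, 31), (19, 31), (23, 31), (47, 31), (7, 31), (5, 31), (3, 31)]),
  (20160, 1, 0, [(7, 2), (11, 7), (13, 7), (17, 7), (19, 7), (23, 7), (31, 7), (47, 7), (5, 7), (3, 7)]),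
  (20160, 2, 0, [(3, 2), (5, 2), (7, 2), (11, 7), (13, 7), (17, 7), (19, 7), (23, 7), (31, 7), (47, 7)]),
  (25920, 1, 0, [(11, 2), (5, 11), (13, 5), (17, 5), (19, 5), (23, 5), (47, 5), (7, 5), (3, 11), (31, 3)]),
  (25920, 2, 0, [(3, 2), (5, 2), (11, 5), (13, 5), (17, 5), (19, 5), (23, 5), (31, 5), (47, 5), (7, 5)]),
  (25920, 3, 0, [(3, 2), (5, 2), (11, 3), (17, 3), (19, 3), (23, 3), (31, 3), (47, 3), (7, 3), (13, 5)]),
  (29120, 1, 0, [(13, 2), (7, 13), (11, 13), (17, 13), (19, 13), (23, 13), (31, 13), (47, 13), (5, 13), (3, 5)]),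
  (32736, 1, 0, [(11, 2), (13, 11), (17, 11), (19, 11), (23, 11), (47, 11), (31, 13), (7, 11), (3, 11), (5, 3)]),
  (51888, 1, 0, [(23, 2), (13, 23), (47, 13), (11, 47), (17, 23), (19, 23), (31, 23), (7, 23), (5, 23), (3, 23)]),
  (58800, 1, 0, [(7, 2), (11, 7), (13, 7), (17, 7), (19, 7), (23, 7), (31, 7), (47, 7), (5, 7), (3, 7)]),
  (62400, 1, 0, [(13, 2), (11, 13), (17, 13), (19, 13), (23, 13), (31, 13), (47, 13), (7, 13), (5, 11), (3, 11)]),
  (95040, 1, 0, [(11, 2), (13, 11), (17, 11), (19, 11), (23, 11), (31, 11), (47, 11), (7, 11), (5, 13), (3, 17)]),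
  (126000, 1, 0, [(7, 2), (11, 7), (13, 7), (17, 7), (19, 7), (23, 7), (31, 7), (47, 7), (5, 7), (3, 7)]),
  (126000, 2, 0, [(3, 2), (5, 2), (7, 2), (11, 5), (13, 5), (17, 5), (19, 5), (23, 5), (47, 5), (31, 7)]),
  (175560, 1, 0, [(11, 2), (7, 11), (19, 7), (13, 11), (17, 11), (23, 11), (31, 11), (47, 11), (5, 11), (3, 11)]),
  (181440, 1, 0, [(7, 2), (11, 7), (13, 7), (17, 7), (19, 7), (23, 7), (31, 7), (47, 7), (5, 7), (3, 7)]),
  (181440, 2, 0, [(3, 2), (5, 2), (7, 2), (11, 7), (13, 7), (17, 7), (19, 7), (23, 7), (31, 7), (47, 7)]),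
  (262080, 1, 0, [(13, 2), (7, 13), (11, 13), (17, 13), (19, 13), (23, 13), (31, 13), (47, 13), (5, 13), (3, 13)]),
  (372000, 1, 0, [(11, 2), (31, 11), (13, 31), (17, 31), (19, 31), (23, 31), (47, 31), (7, 31), (5, 11), (3, 31)]),
  (443520, 1, 0, [(11, 2), (7, 11), (13, 11), (17, 11), (19, 11), (23, 11), (31, 11), (47, 11), (5, 11), (3, 11)]),
  (604800, 1, 0, [(7, 2), (11, 7), (13, 7), (17, 7), (19, 7), (23, 7), (31, 7), (47, 7), (5, 7), (3, 7)]),
  (604800, 2, 0, [(3, 2), (5, 2), (7, 2), (11, 7), (13, 7), (17, 7), (19, 7), (23, 7), (31, 7), (47, 7)]),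
  (976500, 1, 0, [(31, 2), (7, 31), (11, 31), (13, 31), (17, 31), (19, 31), (23, 31), (47, 31), (5, 31), (3, 31)]),
  (979200, 1, 0, [(11, 2), (17, 11), (13, 17), (19, 17), (23, 17), (31, 17), (47, 17), (7, 17), (5, 17), (3, 17)]),
  (1451520, 1, 0, [(7, 2), (11, 7), (13, 7), (17, 7), (19, 7), (23, 7), (31, 7), (47, 7), (5, 7), (3, 7)]),
  (1451520, 2, 0, [(3, 2), (5, 2), (7, 2), (11, 7), (13, 7), (17, 7), (19, 7), (23, 7), (31, 7), (47, 7)]),
  (1814400, 1, 0, [(7, 2), (11, 7), (13, 7), (17, 7), (19, 7), (23, 7), (31, 7), (47, 7), (5, 7), (3, 7)]),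
  (1814400, 2, 0, [(3, 2), (5, 2), (7, 2), (11, 7), (13, 7), (17, 7), (19, 7), (23, 7), (31, 7), (47, 7)]),
  (3265920, 1, 0, [(7, 2), (11, 7), (13, 7), (17, 7), (19, 7), (23, 7), (31, 7), (47, 7), (5, 7), (3, 7)]),
  (3265920, 2, 0, [(3, 2), (5, 2), (7, 2), (11, 7), (13, 7), (17, 7), (19, 7), (23, 7), (31, 7), (47, 7)]),
  (4245696, 1, 0, [(13, 2), (7, 13), (11, 13), (17, 13), (19, 13), (23, 13), (31, 13), (47, 13), (5, 13), (3, 7)]),
  (4680000, 1, 0, [(13, 2), (11, 13), (17, 13), (19, 13), (23, 13), (31, 13), (47, 13), (5, 13), (7, 13), (3, 13)]),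
  (5515776, 1, 0, [(19, 2), (7, 19), (11, 19), (13, 19), (17, 19), (23, 19), (31, 19), (47, 19), (5, 19), (3, 19)]),
  (6065280, 1, 0, [(13, 2), (11, 13), (17, 13), (19, 13), (23, 13), (31, 13), (47, 13), (7, 13), (5, 13), (3, 11)]),
  (9999360, 1, 0, [(7, 2), (31, 7), (11, 31), (13, 31), (17, 31), (19, 31), (23, 31), (47, 31), (5, 31), (3, 31)]),
  (10200960, 1, 0, [(11, 2), (7, 11), (23, 7), (13, 11), (17, 11), (19, 11), (31, 11), (47, 11), (5, 11), (3, 11)]),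
  (13685760, 1, 0, [(13, 2), (11, 13), (17, 11), (19, 11), (23, 11), (31, 11), (47, 11), (7, 11), (3, 11), (5, 13)]),
  (17971200, 1, 0, [(13, 2), (11, 13), (17, 13), (19, 13), (23, 13), (31, 13), (47, 13), (7, 13), (5, 11), (3, 11)]),
  (19958400, 1, 0, [(11, 2), (7, 11), (13, 11), (17, 11), (19, 11), (23, 11), (31, 11), (47, 11), (5, 11), (3, 11)]),
  (42456960, 1, 0, [(13, 2), (7, 13), (11, 13), (17, 13), (19, 13), (23, 13), (31, 13), (47, 13), (5, 13), (3, 7)]),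
  (44352000, 1, 0, [(11, 2), (7, 11), (13, 11), (17, 11), (19, 11), (23, 11), (31, 11), (47, 11), (5, 11), (3, 11)]),
  (50232960, 1, 0, [(19, 2), (11, 19), (17, 11), (13, 17), (23, 17), (31, 17), (47, 17), (7, 17), (5, 17), (3, 17)]),
  (174182400, 1, 0, [(7, 2), (11, 7), (13, 7), (17, 7), (19, 7), (23, 7), (31, 7), (47, 7), (5, 7), (3, 7)]),
  (174182400, 2, 0, [(3, 2), (5, 2), (7, 2), (11, 7), (13, 7), (17, 7), (19, 7), (23, 7), (31, 7), (47, 7)]),
  (197406720, 1, 0, [(17, 2), (7, 17), (11, 17), (13, 17), (19, 17), (23, 17), (31, 17), (47, 17), (5, 17), (3, 17)]),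
  (211341312, 1, 0, [(7, 2), (11, 7), (17, 7), (19, 7), (23, 7), (31, 7), (47, 7), (13, 11), (5, 7), (3, 7)]),
  (239500800, 1, 0, [(11, 2), (7, 11), (13, 11), (17, 11), (19, 11), (23, 11), (31, 11), (47, 11), (5, 11), (3, 11)]),
  (244823040, 1, 0, [(23, 2), (7, 23), (11, 7), (13, 11), (17, 11), (19, 11), (31, 11), (47, 11), (5, 11), (3, 11)]),
  (251596800, 1, 0, [(13, 2), (7, 13), (11, 13), (17, 13), (19, 13), (23, 13), (31, 13), (47, 13), (5, 13), (3, 7)]),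
  (898128000, 1, 0, [(11, 2), (7, 11), (13, 11), (17, 11), (19, 11), (23, 11), (31, 11), (47, 11), (5, 11), (3, 11)]),
  (987033600, 1, 0, [(17, 2), (7, 17), (11, 17), (13, 17), (19, 17), (23, 17), (31, 17), (47, 17), (5, 17), (3, 17)]),
  (1018368000, 1, 0, [(13, 2), (11, 13), (17, 11), (19, 13), (23, 13), (31, 13), (47, 13), (7, 13), (5, 13), (3, 13)]),
  (1056706560, 1, 0, [(7, 2), (11, 7), (17, 7), (19, 7), (23, 7), (31, 7), (47, 7), (13, 11), (5, 7), (3, 7)]),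
  (1425715200, 1, 0, [(13, 2), (7, 13), (17, 7), (11, 13), (19, 13), (23, 13), (31, 13), (47, 13), (5, 13), (3, 13)]),
  (3113510400, 1, 0, [(11, 2), (7, 11), (13, 7), (17, 11), (19, 11), (23, 11), (31, 11), (47, 11), (5, 11), (3, 11)]),
  (4585351680, 1, 0, [(13, 2), (7, 13), (11, 13), (17, 13), (19, 13), (23, 13), (31, 13), (47, 13), (3, 13), (5, 13)]),
  (5859000000, 1, 0, [(5, 2), (11, 5), (13, 5), (17, 5), (19, 5), (23, 5), (47, 5), (31, 11), (7, 31), (3, 5)]),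
  (7254000000, 1, 0, [(5, 2), (11, 5), (17, 5), (19, 5), (23, 5), (47, 5), (13, 11), (31, 11), (7, 5), (3, 5)]),
  (9196830720, 1, 0, [(11, 2), (7, 11), (13, 11), (17, 11), (19, 11), (23, 11), (31, 11), (47, 11), (5, 11), (3, 11)]),
  (14742000000, 1, 0, [(5, 2), (11, 5), (17, 5), (19, 5), (23, 5), (47, 5), (13, 11), (7, 13), (31, 13), (3, 5)]),
  (20158709760, 1, 0, [(7, 2), (11, 7), (13, 7), (17, 7), (19, 7), (23, 7), (47, 7), (31, 11), (5, 7), (3, 7)]),
  (43589145600, 1, 0, [(7, 2), (17, 7), (19, 7), (23, 7), (31, 7), (47, 7), (11, 17), (13, 17), (5, 7), (3, 7)]),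
  (47377612800, 1, 0, [(7, 2), (17, 7), (11, 17), (13, 17), (19, 17), (23, 17), (31, 17), (47, 17), (5, 17), (3, 17)]),
  (50778000000, 1, 0, [(5, 2), (11, 5), (17, 5), (19, 5), (23, 5), (47, 5), (13, 11), (7, 13), (31, 7), (3, 5)]),
  (448345497600, 1, 0, [(11, 2), (7, 11), (13, 7), (17, 11), (19, 11), (23, 11), (31, 11), (47, 11), (5, 11), (3, 11)]),
  (495766656000, 1, 0, [(23, 2), (7, 23), (11, 7), (13, 11), (17, 11), (19, 11), (31, 11), (47, 11), (5, 11), (3, 11)]),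
  (653837184000, 1, 0, [(7, 2), (17, 7), (19, 7), (23, 7), (31, 7), (47, 7), (11, 17), (13, 17), (5, 7), (3, 7)]),
  (4106059776000, 1, 0, [(13, 2), (7, 13), (17, 7), (11, 13), (19, 13), (23, 13), (31, 13), (47, 13), (5, 13), (3, 13)]),
  (4952179814400, 1, 0, [(13, 2), (7, 13), (11, 13), (17, 13), (19, 13), (23, 13), (31, 13), (47, 13), (3, 11), (5, 13)]),
  (10461394944000, 1, 0, [(7, 2), (17, 7), (19, 7), (23, 7), (31, 7), (47, 7), (11, 17), (13, 17), (5, 7), (3, 7)]),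
  (23499295948800, 1, 0, [(17, 2), (7, 17), (31, 7), (11, 17), (13, 17), (19, 17), (23, 17), (47, 17), (5, 17), (3, 17)]),
  (25015379558400, 1, 0, [(17, 2), (7, 17), (11, 7), (13, 11), (19, 11), (23, 11), (31, 11), (47, 11), (5, 11), (3, 11)]),
  (34693789777920, 1, 0, [(13, 2), (11, 13), (7, 11), (17, 7), (23, 7), (31, 7), (47, 7), (19, 11), (5, 7), (3, 7)]),
  (42305421312000, 1, 0, [(11, 2), (7, 11), (23, 7), (13, 11), (17, 11), (19, 11), (31, 11), (47, 11), (5, 11), (3, 11)]),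
  (64561751654400, 1, 0, [(11, 2), (7, 11), (13, 7), (17, 11), (19, 11), (23, 11), (31, 11), (47, 11), (3, 11), (5, 11)]),
  (177843714048000, 1, 0, [(7, 2), (19, 7), (23, 7), (31, 7), (47, 7), (11, 19), (13, 19), (17, 19), (5, 7), (3, 7)]),
  (258492255436800, 1, 0, [(17, 2), (7, 17), (11, 7), (31, 7), (13, 11), (19, 11), (23, 11), (47, 11), (5, 11), (3, 11)]),
  (273030912000000, 1, 0, [(5, 2), (13, 5), (17, 5), (23, 5), (47, 5), (11, 13), (7, 11), (19, 7), (31, 11), (3, 5)]),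
  (3201186852864000, 1, 0, [(7, 2), (19, 7), (23, 7), (31, 7), (47, 7), (11, 19), (13, 19), (17, 19), (5, 7), (3, 7)]),
  (3311126603366400, 1, 0, [(7, 2), (11, 7), (19, 7), (23, 7), (31, 7), (47, 7), (13, 11), (17, 11), (5, 7), (3, 7)]),
  (24815256521932800, 1, 0, [(11, 2), (7, 11), (17, 7), (31, 7), (13, 11), (19, 11), (23, 11), (47, 11), (5, 11), (3, 11)]),
  (60822550204416000, 1, 0, [(7, 2), (23, 7), (31, 7), (47, 7), (11, 23), (13, 23), (17, 23), (19, 23), (5, 7), (3, 7)]),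
  (90745943887872000, 1, 0, [(7, 2), (11, 7), (17, 7), (23, 7), (47, 7), (13, 11), (19, 11), (31, 11), (3, 7), (5, 7)]),
  (1216451004088320000, 1, 0, [(11, 2), (23, 11), (7, 23), (31, 7), (47, 7), (13, 23), (17, 23), (19, 23), (5, 7), (3, 7)]),
  (4089470473293004800, 1, 0, [(3, 2), (7, 3), (19, 3), (31, 3), (47, 3), (11, 7), (13, 7), (17, 7), (23, 7), (5, 3)]),
  (4157776806543360000, 1, 0, [(7, 2), (17, 7), (19, 7), (31, 7), (47, 7), (11, 17), (13, 17), (23, 17), (5, 7), (3, 7)]),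
  (50027557148216524800, 1, 0, [(7, 2), (13, 7), (19, 7), (23, 7), (47, 7), (11, 13), (17, 13), (31, 13), (5, 7), (3, 7)]),
  (51615733565620224000, 1, 0, [(11, 2), (7, 11), (13, 7), (17, 7), (31, 7), (19, 11), (23, 11), (47, 11), (5, 11), (3, 11)]),
  (361310134959341568000, 1, 0, [(7, 2), (19, 7), (23, 7), (47, 7), (11, 19), (13, 19), (17, 19), (31, 19), (5, 7), (3, 7)]),
  (76532479683774853939200, 1, 0, [(7, 2), (23, 7), (31, 7), (47, 7), (11, 23), (13, 23), (17, 23), (19, 23), (3, 7), (5, 7)]),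
  (208114637736580743168000, 1, 0, [(7, 2), (19, 7), (23, 7), (47, 7), (11, 19), (13, 19), (17, 19), (31, 19), (5, 7), (3, 7)])]

set_option maxRecDepth 100000 in
/-- groups of the order of `B` -/
theorem all_b (T : OrderTable.{0})
    (hS : ∀ (S : Type) [Group S] [Finite S], IsSimpleGroup S → IsKnownSimple' S) :
    AllSimple.{u} 4154781481226426191177580544000000 :=
  allSimple T hS (l := l_b) (by decide +kernel) (by decide) (L := ords_b) (by decide +kernel)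
    (tr0 := [(3, 2), (5, 2), (7, 3), (17, 3), (19, 3), (31, 3), (47, 3), (23, 5), (11, 7), (13, 7)]) (by decide +kernel) (certs := certs_b) (by decide +kernel)

end Cfsg.Agent.H154.PG.DataB
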